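import Cfsg.Agent.Lib.FischerTriality.Mov
import Cfsg.Agent.Lib.FischerClassEnd.Center
import Cfsg.Agent.Lib.FischerClassEnd.OddForm
import Cfsg.Agent.Lib.Classical.AlternatingForm

/-!
Two commuting involutions moving every reflection of a projective reflection group over three elements
give a hyperbolic form of dimension divisible by four.
-/

set_option autoImplicit false

namespace Cfsg.Agent.FischerTriality

open Cfsg Cfsg.Agent Cfsg.Agent.Fischer Cfsg.Agent.FischerClass
open Cfsg.Agent.FischerO3 (ap ap_mul PM pm_of_mk_eq)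
open Matrix QuadraticMap
open LinearMap (BilinForm)

universe u

variable {n : ℕ} {Q : QuadraticForm (ZMod 3) (Fin n → ZMod 3)}

theorem add_self_three : ∀ a : ZMod 3, a + a = 0 → a = 0 := by decide

/-- Two anticommuting isometries squaring to minus one give a hyperbolic form with an even number of pairs. -/
theorem plus_form (hQ : (QuadraticMap.polarBilin Q).Nondegenerate) (hn : 5 ≤ n)
    (A A' : (Fin n → ZMod 3) →ₗ[ZMod 3] (Fin n → ZMod 3))
    (hA : ∀ x, A (A x) = -x) (hA' : ∀ x, A' (A' x) = -x) (hAA : ∀ x, A' (A x) = -A (A' x))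
    (hAi : ∀ x y, polar (⇑Q) (A x) (A y) = polar (⇑Q) x y)
    (hA'i : ∀ x y, polar (⇑Q) (A' x) (A' y) = polar (⇑Q) x y) :
    ∃ k : ℕ, 4 ≤ k ∧ n = 2 * k ∧ ∃ Ψ : (Fin k ⊕ Fin k → ZMod 3) ≃ₗ[ZMod 3] (Fin n → ZMod 3),
      ∀ x, Q (Ψ x) = Cfsg.quadFormPlus k (ZMod 3) x := by
  classical
  set B := QuadraticMap.polarBilin Q with hB
  have hBp : ∀ x y, B x y = polar (⇑Q) x y := fun x y => rfl
  have hsymm : ∀ x y, B x y = B y x := fun x y => polar_comm _ x y
  set S := A + A' with hS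
  have hS2 : ∀ x, S (S x) = x := fun x => by
    simp only [hS, LinearMap.add_apply, map_add, hA, hA', hAA]
    funext i
    simp only [Pi.add_apply, Pi.neg_apply]
    exact (by decide : ∀ a b : ZMod 3, -a + -b + (b + -a) = a) _ _
  have hSB : ∀ x y, B (S x) (S y) = -B x y := fun x y => by
    have h1 : B (A x) (A' y) = -B x (A (A' y)) := by
      rw [← neg_eq_iff_eq_neg.2 (show B (A (A x)) (A (A' y)) = -B x (A (A' y)) by rw [hA, map_neg, LinearMap.neg_apply])]
      rw [neg_neg, hBp, hBp, hAi]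
    have h2 : B (A' x) (A y) = B x (A (A' y)) := by
      have h3 : B (A' (A' x)) (A' (A y)) = B (A' x) (A y) := hA'i _ _
      rw [← h3, hA', hAA, map_neg, map_neg, LinearMap.neg_apply, neg_neg]
    simp only [hS, LinearMap.add_apply, map_add, h1, h2]
    rw [show B (A x) (A y) = B x y from hAi x y, show B (A' x) (A' y) = B x y from hA'i x y]
    exact (by decide : ∀ a b : ZMod 3, a + b + (-b + a) = -a) _ _
  set Ep := LinearMap.ker (S - LinearMap.id) with hEp
  set Em := LinearMap.ker (S + LinearMap.id) with hEm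
  have mp : ∀ x, x ∈ Ep ↔ S x = x := fun x => by
    rw [hEp, LinearMap.mem_ker, LinearMap.sub_apply, LinearMap.id_apply, sub_eq_zero]
  have mm : ∀ x, x ∈ Em ↔ S x = -x := fun x => by
    rw [hEm, LinearMap.mem_ker, LinearMap.add_apply, LinearMap.id_apply, add_eq_zero_iff_eq_neg]
  have sing_p : ∀ x ∈ Ep, ∀ y ∈ Ep, B x y = 0 := fun x hx y hy => by
    have h := hSB x y
    rw [(mp x).1 hx, (mp y).1 hy] at h
    exact add_self_three _ (eq_neg_iff_add_eq_zero.1 h)
  have sing_m : ∀ x ∈ Em, ∀ y ∈ Em, B x y = 0 := fun x hx y hy => by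
    have h := hSB x y
    rw [(mm x).1 hx, (mm y).1 hy, map_neg, map_neg, LinearMap.neg_apply, neg_neg] at h
    exact add_self_three _ (eq_neg_iff_add_eq_zero.1 h)
  have hsplit : ∀ x, ∃ a ∈ Ep, ∃ b ∈ Em, x = a + b := fun x => by
    refine ⟨-(x + S x), (mp _).2 ?_, -(x - S x), (mm _).2 ?_, ?_⟩
    · rw [map_neg, map_add, hS2, add_comm]
    · rw [map_neg, map_sub, hS2, neg_neg, neg_sub]
    · funext i
      simp only [Pi.add_apply, Pi.neg_apply, Pi.sub_apply]
      exact (by decide : ∀ a b : ZMod 3, a = -(a + b) + -(a - b)) _ _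
  have hdisj : IsCompl Ep Em := by
    refine IsCompl.of_eq ?_ ?_
    · refine (Submodule.eq_bot_iff _).2 fun x hx => ?_
      have h := ((mp x).1 hx.1).symm.trans ((mm x).1 hx.2)
      funext i
      exact add_self_three _ (eq_neg_iff_add_eq_zero.1 (congrFun h i))
    · refine eq_top_iff.2 fun x _ => ?_
      obtain ⟨a, ha, b, hb, rfl⟩ := hsplit x
      exact Submodule.add_mem_sup ha hb
  have nd_m : ∀ f ∈ Em, (∀ y ∈ Ep, B y f = 0) → f = 0 := fun f hf h => hQ.1 f fun z => by
    obtain ⟨a, ha, b, hb, rfl⟩ := hsplit z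
    show B f (a + b) = 0
    rw [map_add, hsymm f a, h a ha, sing_m f hf b hb, add_zero]
  have nd_p : ∀ a ∈ Ep, (∀ f ∈ Em, B a f = 0) → a = 0 := fun a ha h => hQ.1 a fun z => by
    obtain ⟨a', ha', b, hb, rfl⟩ := hsplit z
    show B a (a' + b) = 0
    rw [map_add, sing_p a ha a' ha', h b hb, add_zero]
  have hdim : Module.finrank (ZMod 3) Ep = Module.finrank (ZMod 3) Em := by
    apply le_antisymm
    · let T : Ep →ₗ[ZMod 3] Module.Dual (ZMod 3) Em := (B.compl₂ Em.subtype).comp Ep.subtype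
      have hT : Function.Injective T := by
        rw [injective_iff_map_eq_zero]
        rintro ⟨a, ha⟩ h
        exact Subtype.ext (nd_p a ha fun f hf => LinearMap.congr_fun h ⟨f, hf⟩)
      exact (LinearMap.finrank_le_finrank_of_injective hT).trans_eq Subspace.dual_finrank_eq
    · let T : Em →ₗ[ZMod 3] Module.Dual (ZMod 3) Ep := (B.flip.compl₂ Ep.subtype).comp Em.subtype
      have hT : Function.Injective T := by
        rw [injective_iff_map_eq_zero]
        rintro ⟨f, hf⟩ h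
        exact Subtype.ext (nd_m f hf fun a ha => LinearMap.congr_fun h ⟨a, ha⟩)
      exact (LinearMap.finrank_le_finrank_of_injective hT).trans_eq Subspace.dual_finrank_eq
  set k := Module.finrank (ZMod 3) Ep with hk
  have hnk : n = 2 * k := by
    have := Submodule.finrank_add_eq_of_isCompl hdisj
    rw [← hdim, Module.finrank_fin_fun] at this
    omega
  -- parity
  let β : BilinForm (ZMod 3) Ep := LinearMap.BilinForm.restrict (B.compl₂ A) Ep
  have hβ : ∀ x y : Ep, β x y = B x (A y) := fun x y => rfl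
  have hβA : β.IsAlt := fun x => by
    rw [hβ]
    refine add_self_three _ ?_
    have h := hAi x (A x)
    rw [hA, polar_neg_right, polar_comm] at h
    rw [hBp]
    exact eq_neg_iff_add_eq_zero.1 h.symm
  have hβN : β.Nondegenerate := by
    refine (LinearMap.IsRefl.nondegenerate_iff_separatingLeft hβA.isRefl).2 fun x hx => ?_
    have hright : ∀ y : Ep, β y x = 0 := fun y => hβA.isRefl x y (hx y)
    obtain ⟨a, ha, b, hb, he⟩ := hsplit (A x)
    have hb0 : b = 0 := nd_m b hb fun y hy => by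
      have h := hright ⟨y, hy⟩
      rw [hβ] at h
      rw [show A (x : Fin n → ZMod 3) = a + b from he, map_add, sing_p y hy a ha, zero_add] at h
      exact h
    have hAx : S (A x) = A x := (mp _).1 (by rw [he, hb0, add_zero]; exact ha)
    have hSx : S (x : Fin n → ZMod 3) = x := (mp _).1 x.2
    have h1 : A (S x) = A x := by rw [hSx]
    simp only [hS, LinearMap.add_apply, map_add, hA, hAA] at hAx h1
    have hneg : A (x : Fin n → ZMod 3) = -(x : Fin n → ZMod 3) := funext fun i => by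
      have e1 := congrFun hAx i
      have e2 := congrFun h1 i
      simp only [Pi.add_apply, Pi.neg_apply] at e1 e2 ⊢
      exact (by decide : ∀ a b c : ZMod 3, -a + -b = c → -a + b = c → c = -a) _ _ _ e1 e2
    have h2 := hA x
    rw [hneg, map_neg, hneg, neg_neg] at h2
    exact Subtype.ext (funext fun i => add_self_three _ (eq_neg_iff_add_eq_zero.1 (congrFun h2 i)))
  obtain ⟨j, hj⟩ := AltForm.exists_finrank_eq hβA hβN
  refine ⟨k, by omega, hnk, ?_⟩
  -- the coordinates
  let b := Module.finBasisOfFinrankEq (ZMod 3) Ep hk.symm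
  let T' : Em →ₗ[ZMod 3] (Fin k → ZMod 3) := LinearMap.pi fun i => (B (b i : Fin n → ZMod 3)).comp Em.subtype
  have hT' : Function.Injective T' := by
    rw [injective_iff_map_eq_zero]
    rintro ⟨f, hf⟩ h
    refine Subtype.ext (nd_m f hf fun y hy => ?_)
    have hy' : (⟨y, hy⟩ : Ep) ∈ Submodule.span (ZMod 3) (Set.range b) := by rw [b.span_eq]; trivial
    have key : ∀ z ∈ Submodule.span (ZMod 3) (Set.range b), B (z : Fin n → ZMod 3) f = 0 := by
      intro z hz
      induction hz using Submodule.span_induction with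
      | mem z hz => obtain ⟨i, rfl⟩ := hz; exact congrFun h i
      | zero => simp
      | add u v _ _ hu hv => rw [Submodule.coe_add, map_add, LinearMap.add_apply, hu, hv, add_zero]
      | smul t u _ hu => rw [Submodule.coe_smul, map_smul, LinearMap.smul_apply, hu, smul_zero]
    exact key _ hy'
  let E := LinearEquiv.ofBijective T' ⟨hT', (LinearMap.injective_iff_surjective_of_finrank_eq_finrank
    (by rw [Module.finrank_fin_fun, ← hdim])).1 hT'⟩
  let Φ : (Fin k ⊕ Fin k → ZMod 3) →ₗ[ZMod 3] (Fin n → ZMod 3) :=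
    (Ep.subtype.comp (b.equivFun.symm.toLinearMap.comp (LinearMap.funLeft (ZMod 3) (ZMod 3) Sum.inl))) +
      (Em.subtype.comp (E.symm.toLinearMap.comp (LinearMap.funLeft (ZMod 3) (ZMod 3) Sum.inr)))
  have hΦ : ∀ x, Q (Φ x) = Cfsg.quadFormPlus k (ZMod 3) x := by
    intro x
    set a : Ep := b.equivFun.symm (x ∘ Sum.inl)
    set f : Em := E.symm (x ∘ Sum.inr)
    show Q ((a : Fin n → ZMod 3) + (f : Fin n → ZMod 3)) = _
    have hq : ∀ v, B v v = 0 → Q v = 0 := fun v h => by
      rw [hBp, polar_self, two_nsmul] at h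
      exact add_self_three _ h
    rw [QuadraticMap.map_add (⇑Q), hq _ (sing_p _ a.2 _ a.2), hq _ (sing_m _ f.2 _ f.2), zero_add, zero_add,
      ← hBp, show (a : Fin n → ZMod 3) = ∑ i, x (Sum.inl i) • (b i : Fin n → ZMod 3) from by
        simp [a, Module.Basis.equivFun_symm_apply], map_sum, LinearMap.coe_sum, Finset.sum_apply]
    refine Finset.sum_congr rfl fun i _ => ?_
    rw [map_smul, LinearMap.smul_apply, smul_eq_mul]
    exact congrArg (x (Sum.inl i) * ·) (congrFun (E.apply_symm_apply (x ∘ Sum.inr)) i)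
  have hinj : Function.Injective Φ := by
    rw [injective_iff_map_eq_zero]
    intro x hx
    refine (Orth.qPlus_nondeg (F := ZMod 3) k).1 x fun y => ?_
    rw [QuadraticMap.polarBilin_apply_apply]
    simp only [polar, Orth.coe_qPlus, ← hΦ]
    rw [map_add, hx, zero_add, QuadraticMap.map_zero, sub_zero, sub_self]
  exact ⟨LinearEquiv.ofBijective Φ ⟨hinj, (LinearMap.injective_iff_surjective_of_finrank_eq_finrank
    (by rw [Module.finrank_fintype_fun_eq_card, Module.finrank_fin_fun, Fintype.card_sum, Fintype.card_fin]; omega)).1 hinj⟩,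
    hΦ⟩

variable {M : Type u} [Group M] {C : Set M} {c : ZMod 3}

/-- The lifts square to minus one. -/
theorem Mov.skew {p : M} (hp : Mov C p) (hn : 5 ≤ n) (hQ : (QuadraticMap.polarBilin Q).Nondegenerate)
    (hc : c ≠ 0) (e : M ≃* ↥(Cfsg.reflectionSubgroup (⇑Q) c) ⧸ Subgroup.center ↥(Cfsg.reflectionSubgroup (⇑Q) c))
    (he : e '' C = (QuotientGroup.mk : ↥(Cfsg.reflectionSubgroup (⇑Q) c) → _) '' {g : ↥(Cfsg.reflectionSubgroup (⇑Q) c) | (g : ↥(Cfsg.isometryGroup (ZMod 3) (⇑Q))) ∈ Cfsg.reflectionsOfNorm (⇑Q) c})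
    {h : ↥(Cfsg.reflectionSubgroup (⇑Q) c)} (hh : QuotientGroup.mk h = e p) (x : Fin n → ZMod 3) :
    ap h.1 (ap h.1 x) = -x := by
  let rv : ∀ v, Q v = c → ↥(Cfsg.reflectionSubgroup (⇑Q) c) := fun v hv => ⟨Mod3.refl hc v hv, Mod3.refl_mem hc hv⟩
  have hiso : ∀ {v}, Q v = c → Q (ap h.1 v) = c := fun {v} hv => (h.1.2 v v).trans hv
  have hconj : ∀ {v} (hv : Q v = c), h * rv v hv * h⁻¹ = rv (ap h.1 v) (hiso hv) := fun {v} hv =>
    Subtype.ext (Mod3.conj_refl hc h.1 hv)
  have hlift : ∀ {v} (hv : Q v = c), ∃ y ∈ C, e y = QuotientGroup.mk (rv v hv) := fun {v} hv => by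
    have hm : (QuotientGroup.mk (rv v hv) : ↥(Cfsg.reflectionSubgroup (⇑Q) c) ⧸ _) ∈ e '' C := by
      rw [he]
      exact Set.mem_image_of_mem _ ⟨v, hv, rfl⟩
    obtain ⟨y, hy, hye⟩ := hm
    exact ⟨y, hy, hye⟩
  have hmove : ∀ {v}, Q v = c → ¬ PM (ap h.1 v) v := fun {v} hv hpm => by
    obtain ⟨y, hy, hye⟩ := hlift hv
    refine hp.moves y hy (e.injective ?_)
    rw [map_mul, map_mul, hye, ← hh, ← QuotientGroup.mk_mul, ← QuotientGroup.mk_mul]
    refine congrArg _ (mul_inv_eq_iff_eq_mul.1 ?_)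
    rw [hconj hv]
    exact Subtype.ext (Mod3.refl_congr hc (hiso hv) hv (by
      exact hpm))
  have hfold : ∀ {v}, Q v = c → polar (⇑Q) v (ap h.1 v) = 0 := fun {v} hv => by
    obtain ⟨y, hy, hye⟩ := hlift hv
    have h1 := (hp.fold y hy).map e.toMonoidHom
    simp only [MulEquiv.coe_toMonoidHom, map_mul, map_inv, hye, ← hh, ← QuotientGroup.mk_mul,
      ← QuotientGroup.mk_inv, hconj hv] at h1
    set w := ap h.1 v with hw
    have hw' : Q w = c := hiso hv
    have hcj : rv v hv * rv w hw' * (rv v hv)⁻¹ =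
        rv (ap (Mod3.refl hc v hv) w) (((Mod3.refl hc v hv).2 w w).trans hw') :=
      Subtype.ext (Mod3.conj_refl hc (Mod3.refl hc v hv) hw')
    have h2 : (QuotientGroup.mk (rv (ap (Mod3.refl hc v hv) w) (((Mod3.refl hc v hv).2 w w).trans hw')) :
        ↥(Cfsg.reflectionSubgroup (⇑Q) c) ⧸ Subgroup.center ↥(Cfsg.reflectionSubgroup (⇑Q) c)) =
        QuotientGroup.mk (rv w hw') := by
      rw [← hcj, QuotientGroup.mk_mul, QuotientGroup.mk_mul, QuotientGroup.mk_inv, h1.eq, mul_inv_cancel_right]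
    have hap : ap (Mod3.refl hc v hv) w = w - ((Q v)⁻¹ * polar (⇑Q) v w) • v := Mod3.refl_mulVec (Q := Q) v w
    have hpm := pm_of_mk_eq (hQ := hQ) hn _ hw' h2
    rw [hap] at hpm
    by_contra hne
    have ht : (Q v)⁻¹ * polar (⇑Q) v w ≠ 0 := mul_ne_zero (inv_ne_zero (hv ▸ hc)) hne
    rcases hpm with h3 | h3
    · rw [sub_eq_self] at h3
      rcases smul_eq_zero.1 h3 with h4 | h4
      · exact ht h4
      · rw [h4, QuadraticMap.map_zero] at hv; exact hc hv.symm
    · refine hmove hv ?_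
      have h4 : w = (-((Q v)⁻¹ * polar (⇑Q) v w)) • v := funext fun i => by
        have := congrFun h3 i
        simp only [Pi.sub_apply, Pi.smul_apply, Pi.neg_apply, smul_eq_mul] at this ⊢
        rw [neg_mul]
        exact (by decide : ∀ a b : ZMod 3, a - b = -a → a = -b) _ _ this
      exact FischerO3.PM.of_smul (neg_ne_zero.2 ht) h4
  have hsq : h * h ∈ Subgroup.center ↥(Cfsg.reflectionSubgroup (⇑Q) c) := by
    rw [← QuotientGroup.eq_one_iff, QuotientGroup.mk_mul, hh, ← map_mul, hp.sq, map_one]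
  obtain ⟨a, ha, hmat⟩ := FischerClassEnd.center_scalar hQ hn hc hsq
  have hH : ∀ y, ap h.1 (ap h.1 y) = a • y := fun y => by
    rw [← ap_mul]
    show (((h * h).1 : GL (Fin n) (ZMod 3)) : Matrix (Fin n) (Fin n) (ZMod 3)) *ᵥ y = _
    rw [hmat, Matrix.smul_mulVec, Matrix.one_mulVec]
  rcases ha with rfl | rfl
  swap
  · rw [hH, neg_smul, one_smul]
  exfalso
  obtain ⟨v, hv⟩ := Mod3.exists_norm hQ (by omega) hc
  set u := v + ap h.1 v with hu
  have hadd : ∀ y z, ap h.1 (y + z) = ap h.1 y + ap h.1 z := fun y z => Matrix.mulVec_add _ _ _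
  have hHu : ap h.1 u = u := by rw [hu, hadd, hH, one_smul, add_comm]
  have hQu : Q u = c + c := by
    rw [hu, QuadraticMap.map_add (⇑Q), hv, hiso hv, hfold hv, add_zero]
  have hQu0 : Q u ≠ 0 := hQu ▸ (by decide : ∀ t : ZMod 3, t ≠ 0 → t + t ≠ 0) _ hc
  obtain ⟨v', hv', qv'⟩ := Mod3.exists_value_perp hQ ![u] (by omega) (by intro i; fin_cases i; simpa using hQu0)
    (by intro i j hij; fin_cases i; fin_cases j; simp at hij) hc
  have huv : polar (⇑Q) u v' = 0 := by simpa using hv' 0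
  set u' := v' + ap h.1 v' with hu'
  have hHu' : ap h.1 u' = u' := by rw [hu', hadd, hH, one_smul, add_comm]
  have huu : polar (⇑Q) u u' = 0 := by
    have h1 : polar (⇑Q) (ap h.1 u) (ap h.1 v') = polar (⇑Q) u v' := Mod3.polar_isometry h.1 u v'
    rw [hHu] at h1
    rw [hu', polar_add_right, h1, huv, add_zero]
  have hsum : Q (u + u') = c := by
    rw [QuadraticMap.map_add (⇑Q), hQu, huu, hu', QuadraticMap.map_add (⇑Q), qv', hiso qv', hfold qv']
    exact (by decide : ∀ t : ZMod 3, t + t + (t + t + 0) + 0 = t) c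
  exact hmove hsum (Or.inl (by rw [hadd, hHu, hHu']))

/-- Two commuting such involutions force a hyperbolic form. -/
theorem Mov.plus_type {p q : M} (hp : Mov C p) (hq : Mov C q) (hpq : Mov C (p * q))
    (hn : 5 ≤ n) (hQ : (QuadraticMap.polarBilin Q).Nondegenerate)
    (hc : c ≠ 0) (e : M ≃* ↥(Cfsg.reflectionSubgroup (⇑Q) c) ⧸ Subgroup.center ↥(Cfsg.reflectionSubgroup (⇑Q) c))
    (he : e '' C = (QuotientGroup.mk : ↥(Cfsg.reflectionSubgroup (⇑Q) c) → _) '' {g : ↥(Cfsg.reflectionSubgroup (⇑Q) c) | (g : ↥(Cfsg.isometryGroup (ZMod 3) (⇑Q))) ∈ Cfsg.reflectionsOfNorm (⇑Q) c}) :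
    ∃ k : ℕ, 4 ≤ k ∧ n = 2 * k ∧
      Nonempty (↥(Cfsg.isometryGroup (ZMod 3) (⇑Q)) ≃* ↥(Cfsg.isometryGroup (ZMod 3) (Cfsg.quadFormPlus k (ZMod 3)))) := by
  obtain ⟨h, hh⟩ := QuotientGroup.mk_surjective (e p)
  obtain ⟨h', hh'⟩ := QuotientGroup.mk_surjective (e q)
  have hhh : (QuotientGroup.mk (h * h') : ↥(Cfsg.reflectionSubgroup (⇑Q) c) ⧸ _) = e (p * q) := by
    rw [QuotientGroup.mk_mul, hh, hh', map_mul]
  have s1 := hp.skew hn hQ hc e he hh
  have s2 := hq.skew hn hQ hc e he hh'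
  have s3 := hpq.skew hn hQ hc e he hhh
  have hneg : ∀ (g : ↥(Cfsg.isometryGroup (ZMod 3) (⇑Q))) y, ap g (-y) = -ap g y := fun g y =>
    Matrix.mulVec_neg _ _
  have hanti : ∀ x, ap h'.1 (ap h.1 x) = -ap h.1 (ap h'.1 x) := fun x => by
    have h3 := s3 (ap h'.1 x)
    rw [show ((h * h' : ↥(Cfsg.reflectionSubgroup (⇑Q) c))).1 = h.1 * h'.1 from rfl, ap_mul, ap_mul, s2,
      hneg] at h3
    -- apply the first isometry once more
    have h4 := congrArg (ap h.1) h3
    rw [s1, hneg, hneg, neg_neg] at h4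
    exact h4
  obtain ⟨k, hk, hnk, Ψ, hΨ⟩ := plus_form hQ hn
    (Matrix.mulVecLin ((h.1 : GL (Fin n) (ZMod 3)) : Matrix (Fin n) (Fin n) (ZMod 3)))
    (Matrix.mulVecLin ((h'.1 : GL (Fin n) (ZMod 3)) : Matrix (Fin n) (Fin n) (ZMod 3)))
    s1 s2 hanti (fun x y => Mod3.polar_isometry h.1 x y) (fun x y => Mod3.polar_isometry h'.1 x y)
  refine ⟨k, hk, hnk, ?_⟩
  obtain ⟨E⟩ := FischerClassEnd.isometry_transport (Cfsg.quadFormPlus k (ZMod 3)) (⇑Q) Ψ one_ne_zero
    (fun x => by rw [one_mul]; exact hΨ x)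
  exact ⟨E.symm⟩

end Cfsg.Agent.FischerTriality
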