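import Cfsg.Agent.Lib.FischerTriality.Mov
import Cfsg.Agent.Lib.Transvec.OrthParity
import Cfsg.Agent.Lib.FischerClass.Model

/-!
An involution moving every transvection of an orthogonal group over two elements has a totally singular
fixed space of half the dimension.
-/

set_option autoImplicit false

namespace Cfsg.Agent.FischerTriality

open Cfsg Cfsg.Agent Cfsg.Agent.Fischer Cfsg.Agent.Transvec Cfsg.Agent.Transvec.Orth

universe u

variable {M : Type u} [Group M] {C : Set M}

theorem Mov.singular_fixed {p : M} (hp : Mov C p) {ι : Type} [Fintype ι] [DecidableEq ι]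
    {Q : (ι → ZMod 2) → ZMod 2} (hQ : Geo.IsNondegenerateQuadraticForm Q)
    (e : M ≃* ↥(isometryGroup (ZMod 2) Q))
    (he : e '' C = {g : ↥(isometryGroup (ZMod 2) Q) |
      (((g : GL ι (ZMod 2)) : Matrix ι ι (ZMod 2)) - 1).rank = 1}) :
    ∃ W : Submodule (ZMod 2) (ι → ZMod 2), (∀ w ∈ W, Q w = 0) ∧
      2 * Module.finrank (ZMod 2) W = Fintype.card ι := by
  set g : GL ι (ZMod 2) := (e p : GL ι (ZMod 2)) with hg
  have hgI : g ∈ isometryGroup (ZMod 2) Q := (e p).2
  have hgg : g * g = 1 := by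
    rw [hg, ← Subgroup.coe_mul, ← map_mul, hp.sq, map_one, OneMemClass.coe_one]
  have hsing : ∀ w ∈ LinearMap.ker (moveLin g), Q w = 0 := by
    intro w hw
    rw [LinearMap.mem_ker, moveLin_apply, sub_eq_zero] at hw
    refine (OrthTwo.zmod2 _).resolve_right fun h1 => ?_
    have hm : (⟨OrthTwo.refl hQ w, OrthTwo.refl_mem hQ h1⟩ : ↥(isometryGroup (ZMod 2) Q)) ∈ e '' C := by
      rw [he]
      exact (OrthTwo.rank_refl hQ (OrthTwo.refl_mem hQ h1)).2 ⟨w, h1, rfl⟩
    obtain ⟨c, hc, hce⟩ := hm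
    refine hp.moves c hc (e.injective (Subtype.ext ?_))
    rw [map_mul, map_mul, hce, Subgroup.coe_mul, Subgroup.coe_mul, ← hg]
    refine mul_inv_eq_iff_eq_mul.1 ?_
    rw [OrthTwo.refl_conj hQ hgI, hw]
  refine ⟨_, hsing, ?_⟩
  have hle : LinearMap.range (moveLin g) ≤ LinearMap.ker (moveLin g) := by
    rintro _ ⟨z, rfl⟩
    rw [LinearMap.mem_ker, moveLin_apply, moveLin_apply]
    have h1 : mv g (mv g z) = z := by rw [← mv_mul, hgg, mv_one]
    rw [show mv g (mv g z - z) = mv g (mv g z) - mv g z from Matrix.mulVec_sub _ _ _, h1]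
    funext i
    simp only [Pi.sub_apply, Pi.zero_apply]
    exact (by decide : ∀ a b : ZMod 2, a - b - (b - a) = 0) _ _
  have hge : LinearMap.ker (moveLin g) ≤ LinearMap.range (moveLin g) := by
    rw [range_moveLin hQ hgI]
    intro w hw u hu
    have h1 := hsing (u + w) (Submodule.add_mem _ hu hw)
    rw [q_add hQ, hsing u hu, hsing w hw, zero_add, zero_add] at h1
    exact h1
  have h := LinearMap.finrank_range_add_finrank_ker (moveLin g)
  rw [le_antisymm hle hge, Module.finrank_fintype_fun_eq_card] at h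
  omega

end Cfsg.Agent.FischerTriality
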