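import Cfsg.Agent.Lib.FischerTriality.Mov
import Cfsg.Agent.S5398
import Cfsg.Agent.S5399
import Cfsg.Agent.S5400

/-!
No such involution in a group of type M(22), M(23) or M(24).
-/

set_option autoImplicit false

namespace Cfsg.Agent.FischerTriality

open Cfsg Cfsg.Agent Cfsg.Agent.Fischer Cfsg.Agent.FischerClass

universe u

variable {M : Type u} [Group M] {C : Set M}

theorem list_false {p : M} (hp : Mov C p) {k : ℕ} (hk : 1 ≤ k) {l : List M} (hlen : l.length = k)
    (hmem : ∀ a ∈ l, a ∈ C) (hc : ∀ a ∈ l, ∀ b ∈ l, Commute a b) (hprod : l.prod = p) : False := by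
  obtain ⟨a, l', rfl⟩ : ∃ a l', l = a :: l' := by
    cases l with
    | nil => simp at hlen; omega
    | cons a l' => exact ⟨a, l', rfl⟩
  refine hp.moves a (hmem a (List.mem_cons_self ..)) ?_
  rw [← hprod]
  exact (Commute.list_prod_right _ _ fun b hb => hc a (List.mem_cons_self ..) b hb).symm

theorem Mov.kill_types [Finite M] {p : M} (hp : Mov C p) (hne : C.Nonempty) (hL : Loc C)
    (h : IsOfTypeM22 M C ∨ IsOfTypeM23 M C ∨ IsOfTypeM24 M C) : False := by
  obtain ⟨d, hd⟩ := hne
  have ho : orderOf p = 2 :=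
    orderOf_eq_prime (by rw [pow_two, hp.sq]) (hp.ne_one ⟨d, hd⟩)
  rcases h with h | h | h
  · obtain ⟨k, hk, -, l, -, hlen, hmem, hc, hprod⟩ :=
      (S5398.result hL.tg hL.prim d hd (hL.three d hd) (hL.two d hd) h).1 p ho
    exact list_false hp hk hlen hmem hc hprod
  · obtain ⟨k, hk, -, l, -, hlen, hmem, hc, hprod⟩ :=
      (S5399.result hL.tg hL.prim d hd (hL.three d hd) (hL.two d hd) h).1 p ho
    exact list_false hp hk hlen hmem hc hprod
  · obtain ⟨k, hk, -, l, -, hlen, hmem, hc, hprod⟩ :=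
      (S5400.result hL.tg hL.prim d hd (hL.three d hd) (hL.two d hd) h).1 p ho
    exact list_false hp hk hlen hmem hc hprod

end Cfsg.Agent.FischerTriality
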