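import Cfsg.Agent.Lib.FischerTriality.Setup
import Cfsg.Agent.Lib.FischerTriality.OrthTwo
import Cfsg.Agent.Lib.FischerTriality.OThree
import Cfsg.Agent.Lib.FischerTriality.Types
import Cfsg.Agent.Lib.FischerClassEnd.Simple
import Cfsg.Agent.Lib.FischerClassEnd.OddCore
import Cfsg.Agent.Lib.FischerClassEnd.SymEightKind
import Cfsg.Agent.Lib.Orthogonal.CharTwoInv.Std
import Cfsg.Agent.S0817
import Cfsg.Agent.S0296

/-!
A class with disconnected commuting graph comes from triality.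
-/

set_option autoImplicit false
set_option linter.style.haveILetI false

namespace Cfsg.Agent.FischerTriality

open Cfsg Cfsg.Agent Cfsg.Agent.Fischer Cfsg.Agent.FischerClass

universe u

/-- Isomorphic groups have isomorphic quotients by their centres. -/
theorem quot_center_iso {A B : Type*} [Group A] [Group B] (E : A ≃* B) :
    Nonempty (A ⧸ Subgroup.center A ≃* B ⧸ Subgroup.center B) := by
  refine ⟨QuotientGroup.congr _ _ E ?_⟩
  ext x
  refine ⟨?_, fun h => ⟨E.symm x, Subgroup.mem_center_iff.2 fun g => E.injective ?_, E.apply_symm_apply x⟩⟩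
  · rintro ⟨y, hy, rfl⟩
    refine Subgroup.mem_center_iff.2 fun g => ?_
    obtain ⟨g, rfl⟩ := E.surjective g
    exact (map_mul E g y).symm.trans ((congrArg E (Subgroup.mem_center_iff.1 hy g)).trans (map_mul E y g))
  · rw [map_mul, map_mul, E.apply_symm_apply]
    exact Subgroup.mem_center_iff.1 h (E g)

/-- A map onto a group with trivial centre kills the centre. -/
theorem map_center_eq_one {A B : Type*} [Group A] [Group B] (f : A →* B) (hf : Function.Surjective f)
    (hc : Subgroup.center B = ⊥) {a : A} (ha : a ∈ Subgroup.center A) : f a = 1 := by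
  rw [← Subgroup.mem_bot, ← hc, Subgroup.mem_center_iff]
  intro g
  obtain ⟨x, rfl⟩ := hf g
  rw [← map_mul, ← map_mul, Subgroup.mem_center_iff.1 ha x]

/-- Two surjections with central kernels onto groups with trivial centre. -/
theorem iso_of_central {A B₁ B₂ : Type*} [Group A] [Group B₁] [Group B₂] (f₁ : A →* B₁) (f₂ : A →* B₂)
    (h₁ : Function.Surjective f₁) (h₂ : Function.Surjective f₂) (c₁ : Subgroup.center B₁ = ⊥)
    (c₂ : Subgroup.center B₂ = ⊥) (k₁ : f₁.ker ≤ Subgroup.center A) (k₂ : f₂.ker ≤ Subgroup.center A) :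
    Nonempty (B₁ ≃* B₂) := by
  have he : f₁.ker = f₂.ker :=
    le_antisymm (fun a ha => MonoidHom.mem_ker.2 (map_center_eq_one f₂ h₂ c₂ (k₁ ha)))
      (fun a ha => MonoidHom.mem_ker.2 (map_center_eq_one f₁ h₁ c₁ (k₂ ha)))
  exact ⟨(QuotientGroup.quotientKerEquivOfSurjective f₁ h₁).symm.trans
    ((QuotientGroup.quotientMulEquivOfEq he).trans (QuotientGroup.quotientKerEquivOfSurjective f₂ h₂))⟩

section

variable {G : Type u} [Group G] [Finite G] {D : Set G} {L : Subgroup G}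

/-- A bound on the index from the order of the automorphism group. -/
theorem Frame.index_dvd (F : Frame D L) {P : Type*} [Group P] (E : ↥L ≃* P) {k : ℕ}
    (hk : Nat.card (MulAut P) = k * Nat.card P) : L.index ∣ k := by
  haveI := F.nrm
  haveI : Finite P := Finite.of_equiv _ E.toEquiv
  have hinj : Function.Injective (MulAut.conjNormal : G →* MulAut ↥L) := by
    rw [injective_iff_map_eq_one]
    intro g hg
    have hmem : g ∈ Subgroup.centralizer (L : Set G) := Subgroup.mem_centralizer_iff.2 fun l hl => by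
      have h1 := congrArg (fun σ : MulAut ↥L => ((σ ⟨l, hl⟩ : ↥L) : G)) hg
      simp only [MulAut.conjNormal_apply, MulAut.one_apply] at h1
      exact (mul_inv_eq_iff_eq_mul.1 h1).symm
    rwa [F.cent, Subgroup.mem_bot] at hmem
  have hd := Subgroup.card_dvd_of_injective _ hinj
  rw [Nat.card_congr (MulAut.congr E).toEquiv, hk, ← L.card_mul_index, Nat.card_congr E.toEquiv,
    mul_comm k] at hd
  exact Nat.dvd_of_mul_dvd_mul_left Nat.card_pos hd

/-- A simple group isomorphic to the commutator of a plus type isometry group. -/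
theorem pomega_of_omega {P : Type*} [Group P] {ι : Type} [Fintype ι] [DecidableEq ι] {K : Type*} [Field K]
    {Q : (ι → K) → K} (hc : Subgroup.center P = ⊥) (E : P ≃* ↥(Cfsg.Omega K Q)) :
    Nonempty (P ≃* Cfsg.POmega K Q) := by
  obtain ⟨E'⟩ := quot_center_iso E
  exact ⟨(QuotientGroup.quotientBot.symm.trans (QuotientGroup.quotientMulEquivOfEq hc.symm)).trans E'⟩

theorem three_dvd_out {j k : ℕ} (hj : 1 ≤ j) (h : 2 * 3 ^ j ∣ k) : 3 ∣ k :=
  (dvd_mul_of_dvd_right (dvd_pow_self 3 (by omega)) 2).trans h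

/-- The reflection group over three elements. -/
theorem Frame.case_othree (F : Frame D L) {d : G} (hd : d ∈ D) {n : ℕ} (hn : 5 ≤ n)
    (h : IsOThree (ecls L d) n) :
    L.index = 6 ∧ Nonempty (↥L ≃* Cfsg.POmega (ZMod 3) (Cfsg.quadFormPlus 4 (ZMod 3))) := by
  classical
  obtain ⟨Q, hQ, c, hc, e, he⟩ := h
  obtain ⟨hcls, hcen, hsimp, hmap, -⟩ := F.ext_facts hd
  haveI := F.nrm
  set R := Cfsg.reflectionSubgroup (⇑Q) c
  let rv : ∀ v, Q v = c → ↥R := fun v hv => ⟨Mod3.refl hc v hv, Mod3.refl_mem hc hv⟩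
  have hlift : ∀ {v} (hv : Q v = c), ∃ y ∈ ecls L d, e y = QuotientGroup.mk (rv v hv) := fun {v} hv => by
    have hm : (QuotientGroup.mk (rv v hv) : ↥R ⧸ _) ∈ e '' ecls L d := by
      rw [he]
      exact Set.mem_image_of_mem _ ⟨v, hv, rfl⟩
    obtain ⟨y, hy, hye⟩ := hm
    exact ⟨y, hy, hye⟩
  -- three orthogonal points
  obtain ⟨u, hu⟩ := Mod3.exists_norm hQ (by omega) hc
  obtain ⟨v, hv', hv⟩ := Mod3.exists_value_perp hQ ![u] (by omega) (by intro i; fin_cases i; simp [hu, hc])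
    (by intro i j hij; fin_cases i; fin_cases j; simp at hij) hc
  have huv : QuadraticMap.polar (⇑Q) u v = 0 := by simpa using hv' 0
  obtain ⟨w, hw', hw⟩ := Mod3.exists_value_perp hQ ![u, v] (by omega)
    (by intro i; fin_cases i <;> simp [hu, hv, hc])
    (by intro i j hij; fin_cases i <;> fin_cases j <;> simp [huv, QuadraticMap.polar_comm (⇑Q) v u] at hij ⊢) hc
  have huw : QuadraticMap.polar (⇑Q) u w = 0 := by simpa using hw' 0
  have hvw : QuadraticMap.polar (⇑Q) v w = 0 := by simpa using hw' 1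
  have hnpm : ∀ {s t}, Q s = c → QuadraticMap.polar (⇑Q) s t = 0 → ¬ FischerO3.PM s t := fun {s t} hs hst hpm => by
    rcases hpm with h1 | h1
    · rw [← h1, QuadraticMap.polar_self, hs, two_nsmul] at hst
      exact hc (add_self_three _ hst)
    · rw [show t = -s by rw [h1, neg_neg], QuadraticMap.polar_neg_right, QuadraticMap.polar_self, hs,
        two_nsmul, neg_eq_zero] at hst
      exact hc (add_self_three _ hst)
  have hpr : ∀ {s t} (hs : Q s = c) (ht : Q t = c) {y z : ↥(ext L d)},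
      e y = QuotientGroup.mk (rv s hs) → e z = QuotientGroup.mk (rv t ht) →
      QuadraticMap.polar (⇑Q) s t = 0 → (y : G) ≠ z ∧ Commute (y : G) z := fun {s t} hs ht {y z} hy hz hst => by
    have hne := hnpm hs hst
    refine ⟨fun h1 => hne (FischerO3.pm_of_mk_eq (hQ := hQ) (hc := hc) hn hs ht ?_), ?_⟩
    · exact hy.symm.trans ((congrArg e (Subtype.ext h1)).trans hz)
    have hc1 : Commute (Mod3.refl hc s hs) (Mod3.refl hc t ht) :=
      (Mod3.commute_refl_iff hc hs ht (fun e => hne (Or.inl e.symm))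
        (fun e => hne (Or.inr (by rw [e, neg_neg])))).2 hst
    have hc2 : Commute y z := e.injective (by
      rw [map_mul, map_mul, hy, hz, ← QuotientGroup.mk_mul, ← QuotientGroup.mk_mul]
      exact congrArg _ (Subtype.ext hc1.eq))
    exact congrArg Subtype.val hc2.eq
  obtain ⟨A, hA, hAe⟩ := hlift hu
  obtain ⟨B, hB, hBe⟩ := hlift hv
  obtain ⟨C, hC, hCe⟩ := hlift hw
  obtain ⟨hAB, cAB⟩ := hpr hu hv hAe hBe huv
  obtain ⟨hAC, cAC⟩ := hpr hu hw hAe hCe huw
  obtain ⟨hBC, cBC⟩ := hpr hv hw hBe hCe hvw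
  have hAD := (F.mem_ecls hd hA).1
  have hBD := (F.mem_ecls hd hB).1
  have hCD := (F.mem_ecls hd hC).1
  obtain ⟨g, hg⟩ := F.exists_mover hd hAD
  have hT := TClass.toGroup F.cls
  set a := g * (A : G) * g⁻¹ with ha
  set b := g * (B : G) * g⁻¹ with hb
  set c' := g * (C : G) * g⁻¹ with hc'
  have haD : a ∈ D := hT.2.1 g _ hAD
  have hbD : b ∈ D := hT.2.1 g _ hBD
  have hcD : c' ∈ D := hT.2.1 g _ hCD
  have hinj : ∀ {x y : G}, g * x * g⁻¹ = g * y * g⁻¹ → x = y := fun h => mul_left_cancel (mul_right_cancel h)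
  have hab : a ≠ b := fun h => hAB (hinj h)
  have hac : a ≠ c' := fun h => hAC (hinj h)
  have hbc : b ≠ c' := fun h => hBC (hinj h)
  have kab : Commute a b := (commute_conj_iff g _ _).2 cAB
  have kac : Commute a c' := (commute_conj_iff g _ _).2 cAC
  have kbc : Commute b c' := (commute_conj_iff g _ _).2 cBC
  have hgb : d⁻¹ * b ∉ L := fun h => hg (by
    have h1 : a⁻¹ * b ∈ L := F.coset a haD b hbD kab
    have h2 := L.mul_mem h (L.inv_mem h1)
    rwa [mul_inv_rev, inv_inv, mul_assoc, mul_inv_cancel_left] at h2)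
  have hmem : ∀ {x y : G}, x ∈ D → y ∈ D → Commute x y → x * y ∈ ext L d := fun {x y} hx hy hxy =>
    Subgroup.mem_sup_left (by
      have := F.coset x hx y hy hxy
      rwa [TSet.inv F.cls.1 hx] at this)
  let p : ↥(ext L d) := ⟨a * b, hmem haD hbD kab⟩
  let q : ↥(ext L d) := ⟨a * c', hmem haD hcD kac⟩
  have hp : Mov (ecls L d) p := F.mov_of_pair hd haD hbD hab kab hg rfl
  have hq : Mov (ecls L d) q := F.mov_of_pair hd haD hcD hac kac hg rfl
  have hpq : Mov (ecls L d) (p * q) := F.mov_of_pair hd hbD hcD hbc kbc hgb (by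
    show a * b * (a * c') = b * c'
    rw [kab.eq, mul_assoc, ← mul_assoc a a, TSet.sq F.cls.1 haD, one_mul])
  obtain ⟨k, hk, hnk, ⟨E⟩⟩ := hp.plus_type hq hpq hn hQ hc e he
  -- the derived group
  obtain ⟨i₁⟩ := FischerClassEnd.commutator_iso e
  let iL : ↥(commutator ↥(ext L d)) ≃* ↥L :=
    ((commutator ↥(ext L d)).equivMapOfInjective (ext L d).subtype (ext L d).subtype_injective).trans
      (MulEquiv.subgroupCongr hmap)
  let A₀ := commutator ↥R
  let π : ↥R →* ↥R ⧸ Subgroup.center ↥R := QuotientGroup.mk' _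
  have hπ : Function.Surjective π := QuotientGroup.mk'_surjective _
  have hA₀ : A₀.map π = commutator (↥R ⧸ Subgroup.center ↥R) := by
    show (commutator ↥R).map π = _
    rw [commutator_def, Subgroup.map_commutator, Subgroup.map_top_of_surjective π hπ, commutator_def]
  let f₁ : ↥A₀ →* ↥(commutator (↥R ⧸ Subgroup.center ↥R)) :=
    (π.comp A₀.subtype).codRestrict _ fun x => hA₀.le ⟨x, x.2, rfl⟩
  have hf₁ : Function.Surjective f₁ := by
    rintro ⟨y, hy⟩
    obtain ⟨x, hx, rfl⟩ := hA₀.ge hy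
    exact ⟨⟨x, hx⟩, rfl⟩
  have hk₁ : f₁.ker ≤ Subgroup.center ↥A₀ := fun x hx => Subgroup.mem_center_iff.2 fun y => by
    have hxc : (x : ↥R) ∈ Subgroup.center ↥R :=
      (QuotientGroup.eq_one_iff _).1 (congrArg Subtype.val (MonoidHom.mem_ker.1 hx))
    exact Subtype.ext (Subgroup.mem_center_iff.1 hxc y)
  have hc₁ : Subgroup.center ↥(commutator (↥R ⧸ Subgroup.center ↥R)) = ⊥ := by
    refine (Subgroup.eq_bot_iff_forall _).2 fun x hx => ?_
    have hy : iL (i₁.symm x) ∈ Subgroup.center ↥L := Subgroup.mem_center_iff.2 fun y => by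
      obtain ⟨z, rfl⟩ := iL.surjective y
      rw [← map_mul, ← map_mul]
      congr 1
      apply i₁.injective
      rw [map_mul, map_mul, i₁.apply_symm_apply]
      exact Subgroup.mem_center_iff.1 hx (i₁ z)
    rw [F.cl, Subgroup.mem_bot] at hy
    rw [← i₁.apply_symm_apply x, iL.map_eq_one_iff.1 hy, map_one]
  haveI : R.Normal := ⟨fun x hx t => by
    induction hx using Subgroup.closure_induction with
    | mem y hy =>
      obtain ⟨s, hs, rfl⟩ := (Mod3.mem_reflections_iff hc y).1 hy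
      rw [Mod3.conj_refl hc t hs]
      exact Mod3.refl_mem hc _
    | one => rw [mul_one, mul_inv_cancel]; exact one_mem _
    | mul y z _ _ iy iz =>
      rw [show t * (y * z) * t⁻¹ = t * y * t⁻¹ * (t * z * t⁻¹) by group]
      exact mul_mem iy iz
    | inv y _ iy =>
      rw [show t * y⁻¹ * t⁻¹ = (t * y * t⁻¹)⁻¹ by group]
      exact inv_mem iy⟩
  let K : Subgroup ↥(Cfsg.isometryGroup (ZMod 3) (⇑Q)) := A₀.map R.subtype
  haveI : K.Normal := by show ((commutator ↥R).map R.subtype).Normal; infer_instance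
  have hKle : K ≤ Cfsg.Omega (ZMod 3) (⇑Q) := by
    show (commutator ↥R).map R.subtype ≤ commutator _
    rw [commutator_def, Subgroup.map_commutator, commutator_def]
    exact Subgroup.commutator_mono le_top le_top
  let σ : ↥A₀ →* ↥(Cfsg.Omega (ZMod 3) (⇑Q)) :=
    (R.subtype.comp A₀.subtype).codRestrict _ fun x => hKle ⟨x, x.2, rfl⟩
  let f₂ : ↥A₀ →* Cfsg.POmega (ZMod 3) (⇑Q) := (QuotientGroup.mk' _).comp σ
  have hk₂ : f₂.ker ≤ Subgroup.center ↥A₀ := fun x hx => Subgroup.mem_center_iff.2 fun y => by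
    have hxc : σ x ∈ Subgroup.center ↥(Cfsg.Omega (ZMod 3) (⇑Q)) :=
      (QuotientGroup.eq_one_iff _).1 (MonoidHom.mem_ker.1 hx)
    exact Subtype.ext (Subtype.ext (congrArg Subtype.val (Subgroup.mem_center_iff.1 hxc (σ y)) :))
  obtain ⟨E'⟩ := FischerClassEnd.commutator_iso E
  obtain ⟨E''⟩ := quot_center_iso E'
  haveI : IsSimpleGroup (Cfsg.POmega (ZMod 3) (Cfsg.quadFormPlus k (ZMod 3))) :=
    S0296.result k hk
  haveI hsQ : IsSimpleGroup (Cfsg.POmega (ZMod 3) (⇑Q)) :=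
    (E'' : Cfsg.POmega (ZMod 3) (⇑Q) ≃* Cfsg.POmega (ZMod 3) (Cfsg.quadFormPlus k (ZMod 3))).isSimpleGroup_congr.2
      inferInstance
  have hc₂ : Subgroup.center (Cfsg.POmega (ZMod 3) (⇑Q)) = ⊥ := by
    refine (Subgroup.eq_bot_iff_forall _).2 fun x hx => ?_
    have h0 : Subgroup.center (Cfsg.POmega (ZMod 3) (Cfsg.quadFormPlus k (ZMod 3))) = ⊥ := by
      have h := AutBalance.center_eq_bot_par (AutPOmega.par_plus (F := ZMod 3) hk)
      rwa [Orth.coe_qPlus] at h
    have hy : E'' x ∈ Subgroup.center (Cfsg.POmega (ZMod 3) (Cfsg.quadFormPlus k (ZMod 3))) :=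
      Subgroup.mem_center_iff.2 fun y => by
        obtain ⟨z, rfl⟩ := E''.surjective y
        exact (map_mul E'' z x).symm.trans ((congrArg E'' (Subgroup.mem_center_iff.1 hx z)).trans (map_mul E'' x z))
    rw [h0, Subgroup.mem_bot] at hy
    exact E''.map_eq_one_iff.1 hy
  have hf₂ : Function.Surjective f₂ := by
    rw [← MonoidHom.range_eq_top]
    have hr : f₂.range = (K.subgroupOf (Cfsg.Omega (ZMod 3) (⇑Q))).map (QuotientGroup.mk' _) := by
      ext z
      constructor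
      · rintro ⟨x, rfl⟩
        exact ⟨σ x, Subgroup.mem_subgroupOf.2 ⟨x, x.2, rfl⟩, rfl⟩
      · rintro ⟨y, hy, rfl⟩
        obtain ⟨x, hx, hxy⟩ := Subgroup.mem_subgroupOf.1 hy
        exact ⟨⟨x, hx⟩, congrArg (QuotientGroup.mk' _) (Subtype.ext hxy : σ ⟨x, hx⟩ = y)⟩
    haveI : f₂.range.Normal := by
      rw [hr]
      exact Subgroup.Normal.map inferInstance _ (QuotientGroup.mk'_surjective _)
    refine (inferInstance : f₂.range.Normal).eq_bot_or_eq_top.resolve_left fun hb => ?_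
    have hall : ∀ x : ↥A₀, x ∈ Subgroup.center ↥A₀ := fun x => hk₂ (MonoidHom.mem_ker.2 (by
      have h1 : f₂ x ∈ f₂.range := ⟨x, rfl⟩
      rwa [hb, Subgroup.mem_bot] at h1))
    have hcc : Subgroup.center ↥(commutator (↥R ⧸ Subgroup.center ↥R)) = ⊤ := eq_top_iff.2 fun y _ => by
      obtain ⟨x, rfl⟩ := hf₁ y
      refine Subgroup.mem_center_iff.2 fun z => ?_
      obtain ⟨x', rfl⟩ := hf₁ z
      rw [← map_mul, ← map_mul, Subgroup.mem_center_iff.1 (hall x) x']
    rw [hc₁] at hcc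
    haveI : Nontrivial ↥(commutator (↥R ⧸ Subgroup.center ↥R)) := by
      haveI := hsimp.toNontrivial
      exact i₁.symm.toEquiv.nontrivial
    exact bot_ne_top hcc
  obtain ⟨i₂⟩ := iso_of_central f₁ f₂ hf₁ hf₂ hc₁ hc₂ hk₁ hk₂
  let EL : ↥L ≃* Cfsg.POmega (ZMod 3) (Cfsg.quadFormPlus k (ZMod 3)) :=
    iL.symm.trans (i₁.trans (i₂.trans E''))
  haveI : Fact (Nat.Prime 3) := ⟨Nat.prime_three⟩
  have hdvd := F.index_dvd EL (S0817.result (F := ZMod 3) 3 1 le_rfl (by rw [ZMod.card, pow_one]) k hk)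
  obtain ⟨j, hj, hidx⟩ := F.ind
  rw [hidx, if_neg (show (3 : ℕ) ≠ 2 by norm_num)] at hdvd
  rcases Nat.lt_or_ge k 5 with h4 | h5
  · obtain rfl : k = 4 := by omega
    norm_num at hdvd
    have : j = 1 := by
      by_contra hne
      have h9 : 9 ∣ 2 * 3 ^ j :=
        dvd_mul_of_dvd_right ((by norm_num : (9 : ℕ) = 3 ^ 2) ▸ pow_dvd_pow 3 (by omega : 2 ≤ j)) 2
      exact absurd (h9.trans hdvd) (by norm_num)
    exact ⟨by rw [hidx, this]; norm_num, ⟨EL⟩⟩
  · exfalso
    rw [if_neg (show k ≠ 4 by omega)] at hdvd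
    have h3 := three_dvd_out hj hdvd
    split_ifs at h3 <;> norm_num at h3

/-- The orthogonal group over two elements. -/
theorem Frame.case_otwo (F : Frame D L) {d : G} (hd : d ∈ D) {p : ↥(ext L d)} (hp : Mov (ecls L d) p)
    (h : IsOTwo (ecls L d)) :
    L.index = 6 ∧ Nonempty (↥L ≃* ↥(Cfsg.Omega (ZMod 2) (Cfsg.quadFormPlus 4 (ZMod 2)))) := by
  obtain ⟨hcls, hcen, hsimp, hmap, hpair⟩ := F.ext_facts hd
  have hne : (ecls L d).Nonempty := ⟨_, mem_conjugatesOf_self⟩
  rcases h with ⟨m, hm, e, he⟩ | ⟨m, hm, e, he⟩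
  swap
  · exfalso
    obtain ⟨W, hW, hdim⟩ := hp.singular_fixed (AutPOmega.geo_minus minus_form m) e he
    have hle := OrthInv2.singular_le_minus (F := ZMod 2) (a := 1) (b := 1) (by decide) m (W := W) (fun w hw => by
      have := hW w hw
      rwa [← Orth.coe_qMinus] at this)
    simp only [Fintype.card_sum, Fintype.card_fin] at hdim
    omega
  by_cases h3 : m = 3
  · subst h3
    exact (hp.kill_sym hne (FischerClassEnd.sym_eight ⟨e, he⟩)).elim
  obtain ⟨i₁⟩ := FischerClassEnd.commutator_iso e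
  let EO : ↥L ≃* ↥(Cfsg.Omega (ZMod 2) (Cfsg.quadFormPlus m (ZMod 2))) :=
    (((commutator ↥(ext L d)).equivMapOfInjective (ext L d).subtype (ext L d).subtype_injective).trans
      (MulEquiv.subgroupCongr hmap)).symm.trans i₁
  obtain ⟨EP⟩ := pomega_of_omega F.cl EO
  haveI : Fact (Nat.Prime 2) := ⟨Nat.prime_two⟩
  have hdvd := F.index_dvd EP (S0817.result (F := ZMod 2) 2 1 le_rfl (by rw [ZMod.card, pow_one]) m (by omega))
  obtain ⟨j, hj, hidx⟩ := F.ind
  rw [hidx, if_pos rfl] at hdvd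
  rcases Nat.lt_or_ge m 5 with h4 | h5
  · obtain rfl : m = 4 := by omega
    norm_num at hdvd
    have : j = 1 := by
      by_contra hne'
      have h9 : 9 ∣ 2 * 3 ^ j :=
        dvd_mul_of_dvd_right ((by norm_num : (9 : ℕ) = 3 ^ 2) ▸ pow_dvd_pow 3 (by omega : 2 ≤ j)) 2
      exact absurd (h9.trans hdvd) (by norm_num)
    exact ⟨by rw [hidx, this]; norm_num, ⟨EO⟩⟩
  · exfalso
    rw [if_neg (show m ≠ 4 by omega)] at hdvd
    have h3' := three_dvd_out hj hdvd
    norm_num at h3'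

/-- The possibilities for the generalized Fitting subgroup. -/
theorem Frame.cases (hK : ∀ {X : Type u} [Group X] [Finite X] (C : Set X), Std C → Kind C)
    (F : Frame D L) :
    L.index = 6 ∧ (Nonempty (↥L ≃* ↥(Cfsg.Omega (ZMod 2) (Cfsg.quadFormPlus 4 (ZMod 2)))) ∨
      Nonempty (↥L ≃* Cfsg.POmega (ZMod 3) (Cfsg.quadFormPlus 4 (ZMod 3)))) := by
  obtain ⟨a, ha, b, hb, hab, hcab⟩ := F.pair
  obtain ⟨hcls, hcen, hsimp, hmap, hpair⟩ := F.ext_facts ha
  have hne : (ecls L a).Nonempty := ⟨_, mem_conjugatesOf_self⟩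
  obtain ⟨g, hg⟩ := F.exists_mover ha ha
  have hT := TClass.toGroup F.cls
  have haD : g * a * g⁻¹ ∈ D := hT.2.1 g a ha
  have hbD : g * b * g⁻¹ ∈ D := hT.2.1 g b hb
  have hc : Commute (g * a * g⁻¹) (g * b * g⁻¹) := (commute_conj_iff g a b).2 hcab
  have hmem : g * a * g⁻¹ * (g * b * g⁻¹) ∈ ext L a := Subgroup.mem_sup_left (by
    have := F.coset _ haD _ hbD hc
    rwa [TSet.inv F.cls.1 haD] at this)
  have hp : Mov (ecls L a) (⟨_, hmem⟩ : ↥(ext L a)) :=
    F.mov_of_pair ha haD hbD (fun h => hab (mul_left_cancel (mul_right_cancel h))) hc hg rfl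
  have hS : Std (ecls L a) := FischerClassEnd.std_of hcls hcen hsimp hpair
  by_cases h2 : ∀ x ∈ ecls L a, Cfsg.pCore 2 ↥(Subgroup.closure (Factor.Nb (ecls L a) x)) ≤ Subgroup.center _
  swap
  · push Not at h2
    obtain ⟨x, hx, hn2⟩ := h2
    rcases FischerClassEnd.twins_kind hS hx hn2 with ⟨m, -, h⟩ | ⟨n, hn, h⟩
    exacts [(hp.kill_sp hne h).elim, (hp.kill_un hne hn h).elim]
  by_cases h3 : ∀ x ∈ ecls L a, Cfsg.pCore 3 ↥(Subgroup.closure (Factor.Nb (ecls L a) x)) ≤ Subgroup.center _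
  swap
  · push Not at h3
    obtain ⟨x, hx, hn3⟩ := h3
    exact (hp.kill_sym hne (FischerClassEnd.oddcore_kind hS hx hn3)).elim
  have hL : Loc (ecls L a) := ⟨hS, h2, h3⟩
  rcases hK (ecls L a) hS with ⟨m, -, h⟩ | ⟨n, hn, h⟩ | h | h
  · exact (hp.kill_sp hne h).elim
  · exact (hp.kill_un hne hn h).elim
  · exact (hp.kill_sym hne h).elim
  rcases h with ⟨n, -, h⟩ | h | ⟨n, hn, h⟩ | h
  · exact (hp.kill_sym hne h).elim
  · exact ⟨(F.case_otwo ha hp h).1, Or.inl (F.case_otwo ha hp h).2⟩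
  · exact ⟨(F.case_othree ha hn h).1, Or.inr (F.case_othree ha hn h).2⟩
  · exact (hp.kill_types hne hL h).elim

end

/-- A disconnected commuting graph gives triality. -/
theorem triality {G : Type u} [Group G] [Finite G] (hK : ∀ {X : Type u} [Group X] [Finite X] (C : Set X), Std C → Kind C)
    {D : Set G} (hD : IsThreeTranspositionClass D) (hZ : Subgroup.center G = ⊥)
    (h2 : Cfsg.pCore 2 G = ⊥) (h3 : Cfsg.pCore 3 G = ⊥) (hdisc : ¬ (Cfsg.commutingGraph D).Connected)
    (F : Subgroup G) [F.Normal] (hF : F = Cfsg.generalizedFittingSubgroup G) :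
    Nonempty (G ⧸ F ≃* Equiv.Perm (Fin 3)) ∧ (Nonempty (F ≃* Cfsg.Omega (ZMod 2) (Cfsg.quadFormPlus 4 (ZMod 2))) ∨ Nonempty (F ≃* Cfsg.POmega (ZMod 3) (Cfsg.quadFormPlus 4 (ZMod 3)))) := by
  obtain ⟨L, FR⟩ := exists_frame hD hZ h2 h3 hdisc
  obtain rfl : F = L := hF.trans FR.fit
  obtain ⟨hidx, hiso⟩ := FR.cases hK
  refine ⟨?_, hiso⟩
  obtain ⟨d, hd, -⟩ := FR.pair
  obtain ⟨e, he, hde⟩ := FR.big d hd
  set π := QuotientGroup.mk' F
  have hne : π d ≠ π e := fun h => hde (QuotientGroup.eq.1 h)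
  have hnc : ¬ Commute d e := fun h => hde (FR.coset d hd e he h)
  have hord : ∀ x ∈ D, orderOf (π x) = 2 := fun x hx =>
    orderOf_eq_prime (by rw [pow_two, ← map_mul, TSet.sq hD.1 hx, map_one])
      fun h => FR.out x hx ((QuotientGroup.eq_one_iff x).1 h)
  haveI : Fact (Nat.Prime 2) := ⟨Nat.prime_two⟩
  haveI : Fact (Nat.Prime 3) := ⟨Nat.prime_three⟩
  have h3' : orderOf (π d * π e) = 3 := by
    refine orderOf_eq_prime (by rw [← map_mul, ← map_pow, TSet.cube hD.1 hd he hnc, map_one]) fun h => ?_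
    rw [mul_eq_one_iff_eq_inv] at h
    refine hne (h.trans (inv_eq_of_mul_eq_one_left ?_))
    rw [← map_mul, TSet.sq hD.1 he, map_one]
  obtain ⟨f⟩ := nonempty_mulEquiv_perm_three (hord d hd) (hord e he) h3'
  have htop : Subgroup.closure ({π d, π e} : Set (G ⧸ F)) = ⊤ := by
    refine Subgroup.eq_top_of_card_eq _ ?_
    rw [Nat.card_congr f.toEquiv, Nat.card_perm, Nat.card_fin, ← Subgroup.index_eq_card, hidx]
    rfl
  exact ⟨((MulEquiv.subgroupCongr htop).trans Subgroup.topEquiv).symm.trans f⟩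

end Cfsg.Agent.FischerTriality
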