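import Cfsg.Agent.Lib.FischerClass.Kinds
import Cfsg.Agent.Lib.FischerClassEnd.UnitKind
import Cfsg.Agent.Lib.FischerClassEnd.SympKind
import Cfsg.Agent.Lib.Classical.UnitUnipCentralizer

/-!
Involutions of the derived group moving every member of a class to a member commuting with it.
-/

set_option autoImplicit false
set_option linter.style.haveILetI false
set_option maxHeartbeats 1000000

namespace Cfsg.Agent.FischerTriality

open Cfsg Cfsg.Agent Cfsg.Agent.Fischer Cfsg.Agent.FischerClass
open Cfsg.Agent.RigidGraph.He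
open Cfsg.Agent.FischerTwins (hf)
open Cfsg.Agent.FischerSolvable.Model (tv tr mv mv_mul mv_one mv_tr mv_ext)

universe u

variable {M : Type u} [Group M] {C : Set M}

/-- An involution of the derived group commuting with no member and moving each to a member commuting with it. -/
structure Mov (C : Set M) (p : M) : Prop where
  sq : p * p = 1
  mem : p ∈ commutator M
  moves : ∀ x ∈ C, ¬ Commute p x
  fold : ∀ x ∈ C, Commute x (p * x * p⁻¹)

/-- In a string `a - x - b` the element `x` commutes with its conjugate by `a * b`. -/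
theorem fold_of_string {x a b : M} (hx : x * x = 1) (ha : a * a = 1) (hb : b * b = 1) (hab : Commute a b)
    (hax : a * x * a = x * a * x) (hbx : b * x * b = x * b * x) :
    Commute x (a * b * x * (a * b)⁻¹) := by
  have hia : a⁻¹ = a := inv_eq_of_mul_eq_one_left ha
  have hib : b⁻¹ = b := inv_eq_of_mul_eq_one_left hb
  have e : a * b * x * (a * b)⁻¹ = b * x * a * x * b := by
    rw [mul_inv_rev, hia, hib, hab.eq, show b * a * x * (b * a) = b * a * x * (a * b) by rw [hab.eq],
      show b * a * x * (a * b) = b * (a * x * a) * b by simp only [mul_assoc], hax]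
    simp only [mul_assoc]
  have hxb : x * b = b * x * b * x := by
    calc x * b = x * b * x * x := by rw [mul_assoc (x * b), hx, mul_one]
      _ = b * x * b * x := by rw [hbx]
  rw [e]
  show x * (b * x * a * x * b) = b * x * a * x * b * x
  calc x * (b * x * a * x * b) = (x * b * x) * a * x * b := by simp only [mul_assoc]
    _ = (b * x * b) * a * x * b := by rw [hbx]
    _ = b * x * (b * a) * x * b := by simp only [mul_assoc]
    _ = b * x * (a * b) * x * b := by rw [hab.eq]
    _ = b * x * a * (b * x * b) := by simp only [mul_assoc]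
    _ = b * x * a * (x * b * x) := by rw [hbx]
    _ = b * x * a * x * b * x := by simp only [mul_assoc]

namespace Mov

variable {p : M} (hp : Mov C p)
include hp

theorem ne_one (hne : C.Nonempty) : p ≠ 1 := fun h => by
  obtain ⟨x, hx⟩ := hne
  exact hp.moves x hx (h ▸ Commute.one_left x)

/-- No such involution in a symmetric group. -/
theorem kill_sym (hne : C.Nonempty) {n : ℕ} (h : IsSym C n) : False := by
  obtain ⟨e, he⟩ := h
  obtain ⟨a, ha⟩ : ∃ a, e p a ≠ a := by
    by_contra hno
    push Not at hno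
    exact hp.ne_one hne (e.injective ((Equiv.ext hno).trans (map_one e).symm))
  set σ := e p with hσ
  have hs : σ * σ = 1 := by rw [hσ, ← map_mul, hp.sq, map_one]
  obtain ⟨x, hx, hxe⟩ := he.ge (⟨σ a, a, ha, rfl⟩ : (Equiv.swap (σ a) a).IsSwap)
  refine hp.moves x hx (e.injective ?_)
  rw [map_mul, map_mul, hxe, ← hσ]
  refine mul_inv_eq_iff_eq_mul.1 ?_
  have haa : σ (σ a) = a := by
    rw [← Equiv.Perm.mul_apply, hs, Equiv.Perm.one_apply]
  rw [show σ * Equiv.swap (σ a) a * σ⁻¹ = Equiv.swap (σ (σ a)) (σ a) from Equiv.swap_apply_apply σ (σ a) a |>.symm,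
    haa, Equiv.swap_comm]

/-- No such involution in a symplectic group over two elements. -/
theorem kill_sp (hne : C.Nonempty) {m : ℕ} (h : IsSp C m) : False := by
  classical
  obtain ⟨e, he⟩ := h
  haveI : Fact (Nat.Prime 2) := ⟨Nat.prime_two⟩
  set B := ClassicalSp.spBilin m (ZMod 2)
  have hA : B.IsAlt := ClassicalSp.spBilin_isAlt
  set T := ClassicalSp.toEquiv (e p) with hT
  have hT2 : ∀ x, T (T x) = x := fun x => by
    have : ClassicalSp.toEquiv (e p) * ClassicalSp.toEquiv (e p) = 1 := by
      rw [← map_mul, ← map_mul, hp.sq, map_one, map_one]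
    exact LinearEquiv.congr_fun this x
  obtain ⟨x, hx⟩ : ∃ x, T x ≠ x := by
    by_contra hno
    push Not at hno
    refine hp.ne_one hne (e.injective (ClassicalSp.toEquiv_injective ?_))
    rw [map_one, map_one]
    exact LinearEquiv.ext hno
  set v := x + T x with hv
  have hTv : T v = v := by rw [hv, map_add, hT2, add_comm]
  have hv0 : v ≠ 0 := fun h => hx (by
    funext i
    have := congrFun h i
    rw [hv, Pi.add_apply, Pi.zero_apply] at this
    exact ((CharTwo.add_eq_zero).1 this).symm)
  obtain ⟨A, hAt⟩ := ClassicalSp.toEquiv_surj (g := AltForm.transv hA v 1) (AltForm.transvGroup_le hA (AltForm.transv_mem hA v 1))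
  have hAv : ∀ y, (A : Matrix (Fin m ⊕ Fin m) (Fin m ⊕ Fin m) (ZMod 2)).mulVec y = y + B y v • v := fun y => by
    rw [← ClassicalSp.toEquiv_apply, hAt, AltForm.transv_apply, one_mul]
  have hrank : ((A : Matrix (Fin m ⊕ Fin m) (Fin m ⊕ Fin m) (ZMod 2)) - 1).rank = 1 := by
    obtain ⟨y, hy⟩ : ∃ y, B y v ≠ 0 := by
      by_contra hno
      push Not at hno
      exact hv0 ((ClassicalSp.spBilin_nondeg (m := m) (F := ZMod 2)).2 v hno)
    rw [Matrix.rank, show ((A : Matrix (Fin m ⊕ Fin m) (Fin m ⊕ Fin m) (ZMod 2)) - 1).mulVecLin.range =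
      Submodule.span (ZMod 2) {v} from ?_]
    · exact finrank_span_singleton hv0
    refine le_antisymm ?_ ((Submodule.span_singleton_le_iff_mem _ _).2 ⟨y, ?_⟩)
    · rintro _ ⟨z, rfl⟩
      rw [Matrix.mulVecLin_apply, Matrix.sub_mulVec, Matrix.one_mulVec, hAv, add_sub_cancel_left]
      exact Submodule.smul_mem _ _ (Submodule.mem_span_singleton_self v)
    · rw [Matrix.mulVecLin_apply, Matrix.sub_mulVec, Matrix.one_mulVec, hAv, add_sub_cancel_left,
        (FischerTwins.zmod_two_cases _).resolve_left hy, one_smul]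
  obtain ⟨c, hc, hce⟩ := he.ge hrank
  refine hp.moves c hc (e.injective (ClassicalSp.toEquiv_injective (LinearEquiv.ext fun y => ?_)))
  rw [map_mul, map_mul, map_mul, map_mul, hce, hAt, ← hT]
  show T (AltForm.transv hA v 1 y) = AltForm.transv hA v 1 (T y)
  rw [AltForm.transv_apply, AltForm.transv_apply, map_add, map_smul, hTv, one_mul, one_mul]
  have hiso : B (T y) (T v) = B y v := ClassicalSp.toEquiv_mem (e p) y v
  rw [hTv] at hiso
  rw [hiso]

/-- No such involution in a projective unitary group over four elements. -/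
theorem kill_un (hne : C.Nonempty) {n : ℕ} (hn : 4 ≤ n) (h : IsUn C n) : False := by
  obtain ⟨e, he⟩ := h
  obtain ⟨h₀, hh₀⟩ := QuotientGroup.mk_surjective (e p)
  have hcent : ∀ z ∈ Subgroup.center (Cfsg.SU n K4 2), z ^ 3 = 1 := by
    intro z hz
    obtain ⟨σ, hσ, hne', hinv, hfix, -⟩ :=
      HermStd.exists_sigma (F := K4) (q := 2) (by rw [K4.card_K4]; rfl)
    obtain ⟨c, hc⟩ := HermSU.scalar_of_commute hne' hinv hσ (show 2 ≤ n by omega) hfix z.1.1 (fun A hA =>
      (congrArg (fun t : Cfsg.SU n K4 2 => t.1.1) (Subgroup.mem_center_iff.1 hz ⟨A, hA⟩)).symm)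
    have h1 := (HermSU.mem_SU_iff hσ z.1).1 z.2
    have h2 := congrFun (congrFun h1 ⟨0, by omega⟩) ⟨0, by omega⟩
    rw [hc, Matrix.diagonal_transpose, Matrix.diagonal_map (map_zero σ), Matrix.diagonal_mul_diagonal,
      Matrix.diagonal_apply_eq, Matrix.one_apply_eq, hσ, ← pow_succ'] at h2
    refine Subtype.ext (Subtype.ext ?_)
    show ((z.1 ^ 3 : Matrix.SpecialLinearGroup (Fin n) K4) : Matrix (Fin n) (Fin n) K4) = _
    rw [Matrix.SpecialLinearGroup.coe_pow, hc, Matrix.diagonal_pow]
    show Matrix.diagonal (fun _ => c ^ 3) = 1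
    rw [h2, Matrix.diagonal_one]
  set g := h₀ ^ 3 with hg
  have hgp : (QuotientGroup.mk g : Cfsg.PSU n K4 2) = e p := by
    rw [hg, QuotientGroup.mk_pow, hh₀, ← map_pow, pow_succ, pow_two, hp.sq, one_mul]
  have hz : h₀ * h₀ ∈ Subgroup.center (Cfsg.SU n K4 2) := by
    rw [← QuotientGroup.eq_one_iff, QuotientGroup.mk_mul, hh₀, ← map_mul, hp.sq, map_one]
  have hg2 : g * g = 1 := by
    rw [hg, ← pow_add, show 3 + 3 = 2 * 3 from rfl, pow_mul, pow_two]
    exact hcent _ hz
  obtain ⟨x, hx⟩ : ∃ x, mv g x ≠ x := by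
    by_contra hno
    push Not at hno
    refine hp.ne_one hne (e.injective ?_)
    rw [← hgp, show g = 1 from mv_ext fun x => (hno x).trans (mv_one x).symm, map_one]
    rfl
  have hn0 : 0 < n := by omega
  have hiso : ∀ a b, hf n (mv g a) (mv g b) = hf n a b := fun a b => g.2 a b
  set v := x + mv g x with hv
  have hgg : mv g (mv g x) = x := by rw [← mv_mul, hg2, mv_one]
  have hgv : mv g v = v := by
    rw [hv, show mv g (x + mv g x) = mv g x + mv g (mv g x) from Matrix.mulVec_add _ _ _, hgg, add_comm]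
  have hv0 : v ≠ 0 := fun h => hx (by
    funext i
    have := congrFun h i
    rw [hv, Pi.add_apply, Pi.zero_apply] at this
    exact ((by decide : ∀ a b : K4, a + b = 0 → a = b) _ _ this).symm)
  have hvv : hf n v v = 0 := by
    have h2 : hf n (mv g x) x = hf n x (mv g x) := by
      conv_lhs => rw [← hiso, hgg]
    rw [hv, FischerTwins.hf_add_left, FischerTwins.hf_add_right, FischerTwins.hf_add_right, hiso, h2]
    exact (by decide : ∀ a b : K4, (a + b) + (b + a) = 0) _ _
  have hmem : (QuotientGroup.mk (tr v) : Cfsg.PSU n K4 2) ∈ e '' C := by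
    rw [he]
    exact Set.mem_image_of_mem _ (FischerO3.rank_tr_one hn0 hvv hv0)
  obtain ⟨c, hc, hce⟩ := hmem
  have hcomm : g * tr v = tr v * g := by
    refine mv_ext fun y => ?_
    have hgy := hiso y v
    rw [hgv] at hgy
    rw [mv_mul, mv_mul, mv_tr hn0 hvv, mv_tr hn0 hvv, FischerTwins.tv_eq, FischerTwins.tv_eq, hgy]
    unfold FischerSolvable.Model.mv
    rw [Matrix.mulVec_add, Matrix.mulVec_smul]
    exact congrArg (fun t => mv g y + hf n y v • t) hgv
  refine hp.moves c hc (e.injective ?_)
  rw [map_mul, map_mul, hce, ← hgp]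
  exact congrArg QuotientGroup.mk hcomm

end Mov

end Cfsg.Agent.FischerTriality
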