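import Cfsg.Agent.S5352
import Cfsg.Agent.S5353
import Cfsg.Agent.S5354
import Cfsg.Agent.Lib.FischerTriality.Mov
import Cfsg.Agent.Lib.FischerClassEnd.Fischer

/-!
A class with disconnected commuting graph: the simple generalized Fitting subgroup, its extension by one
member, and the moving involutions coming from the other cosets.
-/

set_option autoImplicit false
set_option linter.style.haveILetI false

namespace Cfsg.Agent.FischerTriality

open Cfsg Cfsg.Agent Cfsg.Agent.Fischer Cfsg.Agent.FischerClass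
open scoped commutatorElement

universe u

variable {G : Type u} [Group G]

/-- The standing facts. -/
structure Frame (D : Set G) (L : Subgroup G) : Prop where
  cls : IsThreeTranspositionClass D
  nrm : L.Normal
  simple : IsSimpleGroup ↥L
  cl : Subgroup.center ↥L = ⊥
  cent : Subgroup.centralizer (L : Set G) = ⊥
  fit : Cfsg.generalizedFittingSubgroup G = L
  coset : ∀ a ∈ D, ∀ b ∈ D, Commute a b → a⁻¹ * b ∈ L
  out : ∀ d ∈ D, d ∉ L
  big : ∀ d ∈ D, ∃ e ∈ D, d⁻¹ * e ∉ L
  ind : ∃ j, 1 ≤ j ∧ L.index = 2 * 3 ^ j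
  pair : ∃ a ∈ D, ∃ b ∈ D, a ≠ b ∧ Commute a b

/-- The facts hold when the commuting graph is disconnected. -/
theorem exists_frame [Finite G] {D : Set G} (hD : IsThreeTranspositionClass D) (hZ : Subgroup.center G = ⊥)
    (h2 : Cfsg.pCore 2 G = ⊥) (h3 : Cfsg.pCore 3 G = ⊥) (hdisc : ¬ (Cfsg.commutingGraph D).Connected) :
    ∃ L : Subgroup G, Frame D L := by
  haveI : Fact (Nat.Prime 3) := ⟨Nat.prime_three⟩
  have hT := TClass.toGroup hD
  have h2' : Cfsg.pCore 2 G ≤ Subgroup.center G := h2 ▸ bot_le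
  have h3' : Cfsg.pCore 3 G ≤ Subgroup.center G := h3 ▸ bot_le
  obtain ⟨d₀, hd₀⟩ : D.Nonempty := ⟨_, hD.2.1.choose_spec.1⟩
  have hD2 : ∃ a ∈ D, ∃ b ∈ D, a ≠ b := by
    by_contra hno
    push Not at hno
    refine TSet.ne_one hD.1 hd₀ (Subgroup.mem_bot.1 (hZ ▸ mem_center_of_commute_gen hT.2.2 fun e he => ?_ :
      d₀ ∈ (⊥ : Subgroup G)))
    rw [hno d₀ hd₀ e he]
  have hpair := exists_commuting_pair hT hD2 h3'
  obtain ⟨L, hLn, hq, hF, hw⟩ := S5352.result hD hD2 h2' h3'
  haveI := hLn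
  have hFL : Cfsg.generalizedFittingSubgroup G = L := by rw [hF, hZ, sup_bot_eq]
  have hidx : ¬ L.index ≤ 2 := fun h => hdisc
    (S5354.result hT ((S5353.result hD hD2 h2' h3' L hq hF).1 h) hpair).2.1
  have hcoset : ∀ a ∈ D, ∀ b ∈ D, Commute a b → a⁻¹ * b ∈ L := by
    rcases hw with htop | hw
    · exact absurd (by rw [htop, Subgroup.index_top]; norm_num) hidx
    · exact fun a ha b hb h => hw a ha b hb (by
        rw [h.eq, mul_inv_cancel_right, mul_inv_cancel]; exact one_mem L)
  have hwr : ∀ a ∈ D, ∀ b ∈ D, a * b * a⁻¹ * b⁻¹ ∈ L → a⁻¹ * b ∈ L := by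
    rcases hw with htop | hw
    · exact absurd (by rw [htop, Subgroup.index_top]; norm_num) hidx
    · exact hw
  have hcl : Subgroup.center ↥L = ⊥ := by
    rw [← Subgroup.map_eq_bot_iff_of_injective _ L.subtype_injective, ← le_bot_iff, ← hZ]
    refine le_trans ?_ (fitting_le_center hT h2' h3')
    refine Components.le_fittingSubgroup inferInstance ?_
    refine Components.isNilpotent_of_commutator_le_center fun x _ =>
      Subgroup.mem_center_iff.2 fun y => Subtype.ext ?_
    obtain ⟨a, ha, hax⟩ := x.2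
    obtain ⟨b, hb, hby⟩ := y.2
    show (y : G) * x = x * y
    rw [← hax, ← hby, ← map_mul, Subgroup.mem_center_iff.1 ha b, map_mul]
  have hsimple : IsSimpleGroup ↥L := by
    haveI : Nontrivial ↥L := Components.quasisimple_nontrivial hq
    refine ⟨fun N hN => ?_⟩
    rcases Components.quasisimple_normal hq N with h | h
    · exact Or.inr h
    · rw [hcl, le_bot_iff] at h; exact Or.inl h
  have hcent : Subgroup.centralizer (L : Set G) = ⊥ := by
    have hle := Components.centralizer_generalizedFitting_le (G := G)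
    rw [hFL] at hle
    refine (Subgroup.eq_bot_iff_forall _).2 fun x hx => ?_
    have hxc : (⟨x, hle hx⟩ : ↥L) ∈ Subgroup.center ↥L :=
      Subgroup.mem_center_iff.2 fun y => Subtype.ext (Subgroup.mem_centralizer_iff.1 hx y y.2)
    rw [hcl, Subgroup.mem_bot] at hxc
    exact congrArg Subtype.val hxc
  have hout : ∀ d ∈ D, d ∉ L := fun d hd hdL => hidx (by
    have htop : L = ⊤ := eq_top_iff.2 (by
      rw [← hT.2.2, Subgroup.closure_le]
      intro e he
      obtain ⟨g, rfl⟩ := TClass.transitive hD d hd e he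
      exact hLn.conj_mem d hdL g)
    rw [htop, Subgroup.index_top]; norm_num)
  -- the quotient
  let π : G →* G ⧸ L := QuotientGroup.mk' L
  have hπ : Function.Surjective π := QuotientGroup.mk'_surjective L
  have hπ1 : ∀ x, π x = 1 ↔ x ∈ L := fun x => QuotientGroup.eq_one_iff x
  have hπe : ∀ x y, π x = π y ↔ x⁻¹ * y ∈ L := fun x y => QuotientGroup.eq
  have hgen : Subgroup.closure (π '' D) = ⊤ := by
    rw [← MonoidHom.map_closure, hT.2.2, Subgroup.map_top_of_surjective π hπ]
  have hsq : ∀ q ∈ π '' D, q * q = 1 := by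
    rintro _ ⟨a, ha, rfl⟩
    rw [← map_mul, TSet.sq hD.1 ha, map_one]
  have hbr : ∀ q ∈ π '' D, ∀ r ∈ π '' D, q * r * q = r * q * r := by
    rintro _ ⟨a, ha, rfl⟩ _ ⟨b, hb, rfl⟩
    by_cases hab : Commute a b
    · rw [(hπe a b).2 (hcoset a ha b hb hab)]
    · rw [← map_mul, ← map_mul, ← map_mul, ← map_mul, TSet.braid hD.1 ha hb hab]
  have hcj : ∀ q : G ⧸ L, ∀ r ∈ π '' D, q * r * q⁻¹ ∈ π '' D := by
    rintro q _ ⟨a, ha, rfl⟩
    obtain ⟨g, rfl⟩ := hπ q
    exact ⟨g * a * g⁻¹, hT.2.1 g a ha, by rw [map_mul, map_mul, map_inv]⟩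
  set N := Cfsg.pCore 3 (G ⧸ L) with hN
  haveI : N.Normal := Cfsg.pCore_normal 3 _
  have hN3 : IsPGroup 3 ↥N := PBasic.pCore_isPGroup 3 _
  have hmul : ∀ e ∈ D, π d₀ * π e ∈ N := by
    intro e he
    obtain ⟨K, hK, hK3, hmem⟩ := braidSet.mul_mem_normal_three_group hsq hbr hcj
      (Set.mem_image_of_mem π hd₀) (Set.mem_image_of_mem π he)
    exact PBasic.le_pCore hK hK3 hmem
  obtain ⟨j, hj⟩ := IsPGroup.iff_card.1 hN3
  have hNi : N.index = 2 := by
    let ρ : G ⧸ L →* (G ⧸ L) ⧸ N := QuotientGroup.mk' N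
    have hall : ∀ e ∈ D, ρ (π e) = ρ (π d₀) := fun e he => by
      symm
      show (QuotientGroup.mk (π d₀) : (G ⧸ L) ⧸ N) = QuotientGroup.mk (π e)
      rw [QuotientGroup.eq, inv_eq_of_mul_eq_one_left (hsq _ (Set.mem_image_of_mem π hd₀))]
      exact hmul e he
    have htop : (⊤ : Subgroup ((G ⧸ L) ⧸ N)) = Subgroup.zpowers (ρ (π d₀)) := by
      refine le_antisymm ?_ le_top
      rw [← Subgroup.map_top_of_surjective ρ (QuotientGroup.mk'_surjective N), ← hgen, MonoidHom.map_closure,
        Subgroup.closure_le]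
      rintro _ ⟨_, ⟨e, he, rfl⟩, rfl⟩
      rw [hall e he]
      exact Subgroup.mem_zpowers _
    have hord : orderOf (ρ (π d₀)) = 2 := by
      refine orderOf_eq_prime (by rw [pow_two, ← map_mul, hsq _ (Set.mem_image_of_mem π hd₀), map_one])
        fun h1 => hout d₀ hd₀ ((hπ1 _).1 ?_)
      have hmem : π d₀ ∈ N := (QuotientGroup.eq_one_iff _).1 h1
      obtain ⟨k, hk⟩ := hN3 ⟨π d₀, hmem⟩
      have hk' : π d₀ ^ 3 ^ k = 1 := congrArg Subtype.val hk
      obtain ⟨r, hr⟩ := (show Odd (3 ^ k) from (by decide : Odd 3).pow)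
      rwa [hr, pow_succ, pow_mul, pow_two, hsq _ (Set.mem_image_of_mem π hd₀), one_pow, one_mul] at hk'
    rw [Subgroup.index_eq_card, ← Subgroup.card_top (G := (G ⧸ L) ⧸ N), htop, Nat.card_zpowers, hord]
  have hindex : L.index = 2 * 3 ^ j := by
    rw [Subgroup.index_eq_card, ← N.card_mul_index, hj, hNi, mul_comm]
  have hj1 : 1 ≤ j := by
    rcases Nat.eq_zero_or_pos j with rfl | h
    · exact absurd (by rw [hindex]; norm_num) hidx
    · exact h
  refine ⟨L, ⟨hD, hLn, hsimple, hcl, hcent, hFL, hcoset, hout, fun d hd => ?_, ⟨j, hj1, hindex⟩, hpair⟩⟩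
  by_contra hno
  push Not at hno
  refine hidx ?_
  have htop : (⊤ : Subgroup (G ⧸ L)) = Subgroup.zpowers (π d) := by
    refine le_antisymm ?_ le_top
    rw [← hgen, Subgroup.closure_le]
    rintro _ ⟨e, he, rfl⟩
    rw [← (hπe d e).2 (hno e he)]
    exact Subgroup.mem_zpowers _
  rw [Subgroup.index_eq_card, ← Subgroup.card_top (G := G ⧸ L), htop, Nat.card_zpowers]
  exact Nat.le_of_dvd (by norm_num) (orderOf_dvd_of_pow_eq_one (by
    rw [pow_two, hsq _ (Set.mem_image_of_mem π hd)]))

/-- The extension by one member. -/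
abbrev ext (L : Subgroup G) (d : G) : Subgroup G := L ⊔ Subgroup.zpowers d

/-- The class of the member in the extension. -/
def ecls (L : Subgroup G) (d : G) : Set ↥(ext L d) :=
  conjugatesOf (⟨d, Subgroup.mem_sup_right (Subgroup.mem_zpowers d)⟩ : ↥(ext L d))

namespace Frame

variable {D : Set G} {L : Subgroup G} (F : Frame D L) {d : G} (hd : d ∈ D)
include F hd

theorem mem_ecls {x : ↥(ext L d)} (hx : x ∈ ecls L d) : (x : G) ∈ D ∧ d⁻¹ * (x : G) ∈ L := by
  haveI := F.nrm
  obtain ⟨⟨g, hg⟩, hgx⟩ := isConj_iff.1 hx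
  have hxv : (x : G) = g * d * g⁻¹ := (congrArg Subtype.val hgx).symm
  rw [hxv]
  refine ⟨(TClass.toGroup F.cls).2.1 g d hd, ?_⟩
  rw [← QuotientGroup.eq]
  have hle : ext L d ≤ (Subgroup.zpowers (QuotientGroup.mk' L d)).comap (QuotientGroup.mk' L) :=
    sup_le (fun l hl => by
      rw [Subgroup.mem_comap, show QuotientGroup.mk' L l = 1 from (QuotientGroup.eq_one_iff l).2 hl]
      exact one_mem _) (by
      rw [Subgroup.zpowers_le, Subgroup.mem_comap]
      exact Subgroup.mem_zpowers _)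
  obtain ⟨k, hk⟩ := Subgroup.mem_zpowers_iff.1 (Subgroup.mem_comap.1 (hle hg))
  show QuotientGroup.mk' L d = QuotientGroup.mk' L (g * d * g⁻¹)
  rw [map_mul, map_mul, map_inv, ← hk, ← zpow_add_one, ← zpow_neg, ← zpow_add, show k + 1 + -k = 1 by ring,
    zpow_one]

theorem ext_facts [Finite G] :
    IsThreeTranspositionClass (ecls L d) ∧ Subgroup.center ↥(ext L d) = ⊥ ∧
      IsSimpleGroup ↥(commutator ↥(ext L d)) ∧ (commutator ↥(ext L d)).map (ext L d).subtype = L ∧
      ∃ a ∈ ecls L d, ∃ b ∈ ecls L d, a ≠ b ∧ Commute a b := by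
  haveI := F.nrm
  haveI := F.simple
  set M := ext L d with hM
  have hLM : L ≤ M := le_sup_left
  have hdM : d ∈ M := Subgroup.mem_sup_right (Subgroup.mem_zpowers d)
  set d' : ↥M := ⟨d, hdM⟩ with hd'
  have hbotL : ∀ x : G, (∀ l ∈ L, l * x = x * l) → x = 1 := fun x h => by
    have : x ∈ Subgroup.centralizer (L : Set G) := Subgroup.mem_centralizer_iff.2 h
    rwa [F.cent, Subgroup.mem_bot] at this
  -- generation
  have hK : Subgroup.normalClosure ({d'} : Set ↥M) = ⊤ := by
    set K := Subgroup.normalClosure ({d'} : Set ↥M) with hKdef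
    have hdK : d' ∈ K := Subgroup.subset_normalClosure rfl
    haveI : K.Normal := Subgroup.normalClosure_normal
    set N : Subgroup ↥L := (K.map M.subtype).subgroupOf L with hNdef
    haveI : N.Normal := ⟨fun n hn l => by
      rw [hNdef, Subgroup.mem_subgroupOf] at hn ⊢
      obtain ⟨k, hk, hkn⟩ := hn
      exact ⟨(⟨l, hLM l.2⟩ : ↥M) * k * (⟨l, hLM l.2⟩ : ↥M)⁻¹,
        (inferInstance : K.Normal).conj_mem k hk _, by simp [← hkn]⟩⟩
    rcases (inferInstance : N.Normal).eq_bot_or_eq_top with hb | ht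
    · exfalso
      refine TSet.ne_one F.cls.1 hd (hbotL d fun l hl => ?_)
      have hlL : l * d * l⁻¹ * d⁻¹ ∈ L := by
        rw [show l * d * l⁻¹ * d⁻¹ = l * (d * l⁻¹ * d⁻¹) by group]
        exact mul_mem hl (F.nrm.conj_mem _ (inv_mem hl) d)
      have hlN : (⟨_, hlL⟩ : ↥L) ∈ N := by
        rw [hNdef, Subgroup.mem_subgroupOf]
        refine ⟨(⟨l, hLM hl⟩ : ↥M) * d' * (⟨l, hLM hl⟩ : ↥M)⁻¹ * d'⁻¹, ?_, rfl⟩
        exact mul_mem ((inferInstance : K.Normal).conj_mem _ hdK _) (inv_mem hdK)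
      rw [hb, Subgroup.mem_bot] at hlN
      have h1 : l * d * l⁻¹ * d⁻¹ = 1 := congrArg Subtype.val hlN
      rwa [mul_inv_eq_one, mul_inv_eq_iff_eq_mul] at h1
    · have hle : M ≤ K.map M.subtype := by
        refine sup_le ?_ ((Subgroup.zpowers_le).2 ⟨d', hdK, rfl⟩)
        intro l hl
        have : (⟨l, hl⟩ : ↥L) ∈ N := ht ▸ Subgroup.mem_top _
        rw [hNdef, Subgroup.mem_subgroupOf] at this
        exact this
      refine eq_top_iff.2 fun x _ => ?_
      obtain ⟨k, hk, hkx⟩ := hle x.2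
      rwa [← Subtype.ext (show (k : G) = x from hkx)]
  have hgenC : Subgroup.closure (ecls L d) = ⊤ := by
    rw [← hK, Subgroup.normalClosure, Group.conjugatesOfSet]
    simp [ecls, hd', hM]
  have hset : IsThreeTranspositionSet (ecls L d) := by
    refine ⟨fun x hx => ?_, fun x hx y hy => ?_⟩
    · rw [← Subgroup.orderOf_coe]
      exact F.cls.1.1 _ (F.mem_ecls hd hx).1
    · exact (F.cls.1.2 _ (F.mem_ecls hd hx).1 _ (F.mem_ecls hd hy).1).imp
        (fun h => Subtype.ext (by simpa using h)) (fun h => Subtype.ext (by simpa using h))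
  have hclass : IsThreeTranspositionClass (ecls L d) :=
    ⟨hset, ⟨d', mem_conjugatesOf_self, rfl⟩, hgenC⟩
  -- centre
  have hc1 : ∀ z : ↥M, (∀ l ∈ L, l * (z : G) = z * l) → z = 1 := fun z h => Subtype.ext (hbotL _ h)
  have hcen : Subgroup.center ↥M = ⊥ := (Subgroup.eq_bot_iff_forall _).2 fun z hz => hc1 z fun l hl =>
    congrArg Subtype.val (Subgroup.mem_center_iff.1 hz ⟨l, hLM hl⟩)
  -- derived group
  have hperf : commutator ↥L = ⊤ :=
    ((inferInstance : (commutator ↥L).Normal).eq_bot_or_eq_top).resolve_left fun hb => by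
      obtain ⟨x, hx⟩ := exists_ne (1 : ↥L)
      have hxc : x ∈ Subgroup.center ↥L := Subgroup.mem_center_iff.2 fun y => by
        have hm : ⁅y, x⁆ ∈ commutator ↥L := by
          rw [commutator_def]
          exact Subgroup.commutator_mem_commutator (Subgroup.mem_top _) (Subgroup.mem_top _)
        rw [hb, Subgroup.mem_bot] at hm
        exact commutatorElement_eq_one_iff_mul_comm.1 hm
      rw [F.cl, Subgroup.mem_bot] at hxc
      exact hx hxc
  have hmap : (commutator ↥M).map M.subtype = L := by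
    refine le_antisymm ?_ fun l hl => ?_
    · let π : ↥M →* G ⧸ L := (QuotientGroup.mk' L).comp M.subtype
      have hr : π.range ≤ Subgroup.zpowers (QuotientGroup.mk' L d) := by
        rintro _ ⟨x, rfl⟩
        have hle : M ≤ (Subgroup.zpowers (QuotientGroup.mk' L d)).comap (QuotientGroup.mk' L) :=
          sup_le (fun l hl => by
            rw [Subgroup.mem_comap, show QuotientGroup.mk' L l = 1 from (QuotientGroup.eq_one_iff l).2 hl]
            exact one_mem _) (by
            rw [Subgroup.zpowers_le, Subgroup.mem_comap]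
            exact Subgroup.mem_zpowers _)
        exact hle x.2
      rintro _ ⟨x, hx, rfl⟩
      rw [← QuotientGroup.eq_one_iff]
      have hle : commutator ↥M ≤ π.ker := by
        rw [commutator_def, Subgroup.commutator_le]
        intro a _ b _
        rw [MonoidHom.mem_ker, map_commutatorElement, commutatorElement_eq_one_iff_mul_comm]
        obtain ⟨i, hi⟩ := Subgroup.mem_zpowers_iff.1 (hr ⟨a, rfl⟩)
        obtain ⟨k, hk⟩ := Subgroup.mem_zpowers_iff.1 (hr ⟨b, rfl⟩)
        rw [← hi, ← hk, ← zpow_add, ← zpow_add, add_comm]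
      exact MonoidHom.mem_ker.1 (hle hx)
    · have h1 : (⟨l, hl⟩ : ↥L) ∈ commutator ↥L := hperf ▸ Subgroup.mem_top _
      have h2 : (commutator ↥L).map (Subgroup.inclusion hLM) ≤ commutator ↥M := by
        rw [commutator_def, Subgroup.map_commutator, commutator_def]
        exact Subgroup.commutator_mono le_top le_top
      exact ⟨_, h2 ⟨_, h1, rfl⟩, rfl⟩
  have hsimple : IsSimpleGroup ↥(commutator ↥M) :=
    (((commutator ↥M).equivMapOfInjective M.subtype M.subtype_injective).trans
      (MulEquiv.subgroupCongr hmap)).isSimpleGroup_congr.2 inferInstance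
  refine ⟨hclass, hcen, hsimple, hmap, ?_⟩
  -- a commuting pair
  haveI : Fact (Nat.Prime 3) := ⟨Nat.prime_three⟩
  refine exists_commuting_pair (TClass.toGroup hclass) ?_ ?_
  · by_contra hno
    push Not at hno
    refine TSet.ne_one hset mem_conjugatesOf_self ?_
    rw [← Subgroup.mem_bot, ← hcen]
    refine mem_center_of_commute_gen hgenC fun x hx => ?_
    exact (hno d' mem_conjugatesOf_self x hx) ▸ Commute.refl _
  · set O := Cfsg.pCore 3 ↥M with hO
    haveI : O.Normal := Cfsg.pCore_normal 3 _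
    set N : Subgroup ↥L := O.comap (Subgroup.inclusion hLM) with hNdef
    have hNb : N = ⊥ := (inferInstance : N.Normal).eq_bot_or_eq_top.resolve_right fun ht => by
      have hP : IsPGroup 3 ↥L := IsPGroup.of_injective (PBasic.pCore_isPGroup 3 ↥M)
        ((Subgroup.inclusion hLM).codRestrict O fun l => by
          have : l ∈ N := ht ▸ Subgroup.mem_top l
          exact this) fun a b h => Subgroup.inclusion_injective hLM (congrArg Subtype.val h :)
      haveI := hP.center_nontrivial
      exact (Subgroup.nontrivial_iff_ne_bot _).1 inferInstance F.cl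
    intro z hz
    refine (hc1 z fun l hl => ?_) ▸ one_mem _
    have hlL : l * (z : G) * l⁻¹ * (z : G)⁻¹ ∈ L := by
      rw [show l * (z : G) * l⁻¹ * (z : G)⁻¹ = l * ((z : G) * l⁻¹ * (z : G)⁻¹) by group]
      exact mul_mem hl (F.nrm.conj_mem _ (inv_mem hl) _)
    have hlN : (⟨_, hlL⟩ : ↥L) ∈ N := by
      rw [hNdef, Subgroup.mem_comap]
      have : (⟨l, hLM hl⟩ : ↥M) * z * (⟨l, hLM hl⟩ : ↥M)⁻¹ * z⁻¹ ∈ O :=
        mul_mem ((inferInstance : O.Normal).conj_mem _ hz _) (inv_mem hz)
      exact this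
    rw [hNb, Subgroup.mem_bot] at hlN
    have h1 : l * (z : G) * l⁻¹ * (z : G)⁻¹ = 1 := congrArg Subtype.val hlN
    rwa [mul_inv_eq_one, mul_inv_eq_iff_eq_mul] at h1

/-- A member of another coset. -/
theorem exists_mover {a : G} (ha : a ∈ D) : ∃ g : G, d⁻¹ * (g * a * g⁻¹) ∉ L := by
  obtain ⟨e, he, hde⟩ := F.big d hd
  obtain ⟨g, rfl⟩ := TClass.transitive F.cls a ha e he
  exact ⟨g, hde⟩

/-- Two commuting members of another coset give a moving involution. -/
theorem mov_of_pair [Finite G] {a b : G} (ha : a ∈ D) (hb : b ∈ D) (hne : a ≠ b) (hab : Commute a b)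
    (hout : d⁻¹ * a ∉ L) {p : ↥(ext L d)} (hp : (p : G) = a * b) : Mov (ecls L d) p := by
  haveI := F.nrm
  have hD := F.cls.1
  have hmk : (QuotientGroup.mk a : G ⧸ L) = QuotientGroup.mk b :=
    QuotientGroup.eq.2 (F.coset a ha b hb hab)
  have hnc : ∀ x ∈ ecls L d, ∀ c ∈ D, (QuotientGroup.mk c : G ⧸ L) = QuotientGroup.mk a →
      ¬ Commute c (x : G) := fun x hx c hc hca h => hout (by
    obtain ⟨hxD, hxL⟩ := F.mem_ecls hd hx
    rw [← QuotientGroup.eq, QuotientGroup.eq.2 hxL, ← hca]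
    exact (QuotientGroup.eq.2 (F.coset c hc _ hxD h)).symm)
  refine ⟨Subtype.ext ?_, ?_, fun x hx hc => ?_, fun x hx => ?_⟩
  · rw [Subgroup.coe_mul, hp, OneMemClass.coe_one]
    calc a * b * (a * b) = a * (b * a) * b := by simp only [mul_assoc]
      _ = a * (a * b) * b := by rw [hab.eq]
      _ = (a * a) * (b * b) := by simp only [mul_assoc]
      _ = 1 := by rw [TSet.sq hD ha, TSet.sq hD hb, one_mul]
  · have hpL : (p : G) ∈ L := by
      rw [hp]
      have := F.coset a ha b hb hab
      rwa [TSet.inv hD ha] at this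
    obtain ⟨y, hy, hyp⟩ := (F.ext_facts hd).2.2.2.1.ge hpL
    rwa [← Subtype.ext (show (y : G) = p from hyp)]
  · have hxD := (F.mem_ecls hd hx).1
    have h1 : a * b * (x : G) = x * (a * b) := by
      have := congrArg Subtype.val hc.eq
      rwa [Subgroup.coe_mul, Subgroup.coe_mul, hp] at this
    have ha1 := TSet.braid hD ha hxD (hnc x hx a ha rfl)
    have hb1 := TSet.braid hD hb hxD (hnc x hx b hb hmk.symm)
    have h2 : b * (x : G) * b = a * x * a := by
      calc b * (x : G) * b = a * (a * b * x) * b := by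
            rw [show a * (a * b * (x : G)) * b = (a * a) * b * x * b by simp only [mul_assoc], TSet.sq hD ha,
              one_mul]
        _ = a * x * a * (b * b) := by rw [h1]; simp only [mul_assoc]
        _ = a * x * a := by rw [TSet.sq hD hb, mul_one]
    rw [ha1, hb1] at h2
    exact hne (mul_left_cancel (mul_right_cancel h2)).symm
  · have hxD := (F.mem_ecls hd hx).1
    have := fold_of_string (TSet.sq hD hxD) (TSet.sq hD ha) (TSet.sq hD hb) hab
      (TSet.braid hD ha hxD (hnc x hx a ha rfl)) (TSet.braid hD hb hxD (hnc x hx b hb hmk.symm))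
    refine Subtype.ext ?_
    simp only [Subgroup.coe_mul, Subgroup.coe_inv, hp]
    exact this.eq

end Frame

end Cfsg.Agent.FischerTriality
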